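import Mathlib
import Cfsg.Agent.Helper9.Sieve
import Cfsg.Agent.Helper17.SylowKit
import Cfsg.Agent.Helper17.SylowKit2
import Cfsg.Agent.Helper17.LemmaN

set_option autoImplicit false

namespace Cfsg.Agent.Helper39.SimpOrd

open Subgroup Cfsg.Agent.Helper9 Cfsg.Agent.Helper17

variable {G : Type*} [Group G] [Finite G] [IsSimpleGroup G]

/-- The admissible Sylow counts, as a list. -/
def npList (p k m : ℕ) : List ℕ :=
  (List.range (m + 1)).filter fun np => npOK (p ^ k * m) p k m np

theorem card_sylow_mem_npList (hG : ¬ IsMulCommutative G) (p k m : ℕ) (hp : p.Prime)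
    (hcard : Nat.card G = p ^ k * m) (hm : ¬ p ∣ m) (hk : k ≠ 0) (hm1 : m ≠ 1) :
    Nat.card (Sylow p G) ∈ npList p k m := by
  have h := sylow_count_ok hG p k m hp hcard hm hk hm1
  have : Fact p.Prime := ⟨hp⟩
  have hdvd : Nat.card (Sylow p G) ∣ m := card_sylow_dvd_of_card_eq hcard hm
  have hm0 : m ≠ 0 := fun h => hm (h ▸ dvd_zero p)
  have hle : Nat.card (Sylow p G) ≤ m := Nat.le_of_dvd (Nat.pos_of_ne_zero hm0) hdvd
  unfold npList
  rw [List.mem_filter]
  exact ⟨List.mem_range.mpr (by omega), h⟩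

/-- Order of the normalizer from the Sylow count. -/
theorem card_normalizer_of_card_sylow {p : ℕ} [Fact p.Prime] (P : Sylow p G) {n np N : ℕ}
    (hcard : Nat.card G = n) (hnp : Nat.card (Sylow p G) = np) (hN : N * np = n) (hnp0 : np ≠ 0) :
    Nat.card (normalizer ((P : Subgroup G) : Set G)) = N := by
  have := card_normalizer_mul_card_sylow P
  rw [hcard, hnp, ← hN] at this
  exact Nat.eq_of_mul_eq_mul_right (Nat.pos_of_ne_zero hnp0) this

theorem normalizer_sylow_ne_top {p : ℕ} [Fact p.Prime] (P : Sylow p G)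
    (hnp : Nat.card (Sylow p G) ≠ 1) : normalizer ((P : Subgroup G) : Set G) ≠ ⊤ := by
  intro h
  apply hnp
  rw [P.card_eq_index_normalizer]
  exact (congrArg Subgroup.index h).trans Subgroup.index_top

/-- `n_p = p + 1` is impossible when `2 |N(P)|` does not divide `p (p - 1)`. -/
theorem kill_succ (hG : ¬ IsMulCommutative G) {p : ℕ} [Fact p.Prime] (P : Sylow p G) {n N : ℕ}
    (hcard : Nat.card G = n) (hpn : p ∣ n) (hnp : Nat.card (Sylow p G) = p + 1)
    (hN : N * (p + 1) = n) (hnd : ¬ 2 * N ∣ p * (p - 1)) : False := by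
  have hNc := card_normalizer_of_card_sylow P hcard hnp hN (by omega)
  have hidx : (normalizer ((P : Subgroup G) : Set G)).index = p + 1 := by
    rw [← hnp]; exact (P.card_eq_index_normalizer).symm
  have hne : normalizer ((P : Subgroup G) : Set G) ≠ ⊤ :=
    normalizer_sylow_ne_top P (by rw [hnp]; have := (Fact.out : p.Prime).two_le; omega)
  have := two_mul_card_normalizer_dvd_of_index hG _ hne p (Or.inr hidx) (by rw [hcard]; exact hpn) P
  rw [hNc] at this
  exact hnd this

/-- One-shot version: the sieve leaves only `n_p = p + 1`, which Lemma N excludes. -/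
theorem kill_succ' (hG : ¬ IsMulCommutative G) (p k m N : ℕ) (hp : p.Prime)
    (hcard : Nat.card G = p ^ k * m) (hm : ¬ p ∣ m) (hk : k ≠ 0) (hm1 : m ≠ 1)
    (hL : npList p k m = [p + 1]) (hN : N * (p + 1) = p ^ k * m)
    (hnd : ¬ 2 * N ∣ p * (p - 1)) : False := by
  haveI : Fact p.Prime := ⟨hp⟩
  obtain ⟨P⟩ : Nonempty (Sylow p G) := inferInstance
  have hmem := card_sylow_mem_npList hG p k m hp hcard hm hk hm1
  rw [hL, List.mem_singleton] at hmem
  exact kill_succ hG P hcard (Dvd.dvd.mul_right (dvd_pow_self p hk) m) hmem hN hnd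

end Cfsg.Agent.Helper39.SimpOrd
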