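import Mathlib
import Cfsg.Agent.Helper17.Parity

set_option autoImplicit false
set_option linter.style.haveILetI false

namespace Cfsg.Agent.Helper39.SimpOrd

open Subgroup Cfsg.Agent Cfsg.Agent.Helper17

variable {G : Type*} [Group G]

/-- **Parity count, sharpened.** As `Helper17.parity_count`, but the number of fixed points is
named (it is the number of conjugates of `t` in `N(P)`), and `t` moves some point. -/
theorem parity_count' [Finite G] [IsSimpleGroup G] (hG2 : 2 < Nat.card G) {p : ℕ}
    [hp : Fact p.Prime]
    (P : Sylow p G) (hP : Nat.card (P : Subgroup G) = p) (t : G) (ht2 : orderOf t = 2)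
    (htC : t ∈ centralizer ((P : Subgroup G) : Set G))
    (huniq : ∀ c ∈ centralizer ((P : Subgroup G) : Set G), orderOf c = 2 → c = t)
    (hCt : centralizer ({t} : Set G) = normalizer ((P : Subgroup G) : Set G))
    (hNtop : normalizer ((P : Subgroup G) : Set G) ≠ ⊤) :
    ∃ F m : ℕ, 0 < m ∧ F ≡ 1 [MOD p] ∧
      F = Nat.card {g : G // IsConj t g ∧ g ∈ normalizer ((P : Subgroup G) : Set G)} ∧
      F ≤ Nat.card (centralizer ((P : Subgroup G) : Set G)) + 1 ∧
      F + 4 * m = (normalizer ((P : Subgroup G) : Set G)).index := by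
  classical
  set N := normalizer ((P : Subgroup G) : Set G) with hNdef
  letI : Fintype (G ⧸ N) := Fintype.ofFinite _
  have htN : t ∈ N := Subgroup.centralizer_le_normalizer _ htC
  set Tset : Finset (G ⧸ N) := Finset.univ.filter (fun x => t • x = x) with hTset
  have hmemT : ∀ x : G ⧸ N, x ∈ Tset ↔ t • x = x := by
    intro x; rw [hTset, Finset.mem_filter]; simp
  refine ⟨Tset.card, ?_⟩
  -- (i) congruence mod p
  have hcong : Tset.card ≡ 1 [MOD p] := by
    have hinv : ∀ g : (P : Subgroup G), ∀ x ∈ Tset, g • x ∈ Tset := by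
      intro g x hx
      rw [hmemT] at hx ⊢
      have hcomm : (g : G) * t = t * g := htC g g.2
      change t • ((g : G) • x) = (g : G) • x
      rw [← mul_smul, ← hcomm, mul_smul, hx]
    have h1 := Helper70.PCount.card_modEq_card_fixed (p := p) P.isPGroup' Tset hinv
    have h2 : (Tset.filter (fun x => ∀ g : (P : Subgroup G), g • x = x)).card = 1 := by
      rw [Finset.card_eq_one]
      refine ⟨((1 : G) : G ⧸ N), ?_⟩
      have hPnt : Nontrivial (P : Subgroup G) := by
        rw [← Finite.one_lt_card_iff_nontrivial, hP]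
        exact hp.out.one_lt
      obtain ⟨⟨y, hyP⟩, hy1⟩ := exists_ne (1 : (P : Subgroup G))
      have hy1' : y ≠ 1 := fun h => hy1 (Subtype.ext h)
      have hyo : orderOf y = p := by
        have h1 : orderOf y ∣ p := by
          have := orderOf_dvd_natCard (⟨y, hyP⟩ : (P : Subgroup G))
          rwa [hP, Subgroup.orderOf_mk] at this
        rcases (Nat.dvd_prime hp.out).mp h1 with h2 | h2
        · exact absurd (orderOf_eq_one_iff.mp h2) hy1'
        · exact h2
      have hone := card_fixedBy_eq_one P hP y hyo
      have hbase : ∀ g : G, g ∈ N → g • (((1 : G) : G ⧸ N)) = ((1 : G) : G ⧸ N) := by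
        intro g hg
        rw [MulAction.Quotient.smul_mk, QuotientGroup.eq]
        simpa using hg
      ext x
      rw [Finset.mem_filter, Finset.mem_singleton, hmemT]
      constructor
      · rintro ⟨-, hx⟩
        have hxy : x ∈ MulAction.fixedBy (G ⧸ N) y := by
          have := hx ⟨y, hyP⟩
          exact this
        have hby : ((1 : G) : G ⧸ N) ∈ MulAction.fixedBy (G ⧸ N) y :=
          hbase y (Subgroup.le_normalizer hyP)
        have hss : Subsingleton (MulAction.fixedBy (G ⧸ N) y) :=
          (Nat.card_eq_one_iff_unique.mp hone).1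
        have := hss.elim ⟨x, hxy⟩ ⟨_, hby⟩
        exact congrArg Subtype.val this
      · rintro rfl
        refine ⟨hbase t htN, fun g => ?_⟩
        exact hbase g (Subgroup.le_normalizer g.2)
    rw [h2] at h1
    exact h1
  -- (ii) the class count
  have hFcard : Nat.card (MulAction.fixedBy (G ⧸ N) t) = Tset.card := by
    apply Nat.subtype_card
    intro x
    rw [hmemT]; rfl
  have h6 : Tset.card = Nat.card {g : G // IsConj t g ∧ g ∈ N} := by
    have h1 := Cfsg.Agent.S1019.result N t htN
    have h2 := Helper43.card_class_mul_card_centralizer t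
    have h3 : Nat.card {x : G // ConjClasses.mk x = ConjClasses.mk t}
        = Nat.card {g : G // IsConj t g} := by
      apply Nat.card_congr
      refine Equiv.subtypeEquivRight ?_
      intro x
      rw [ConjClasses.mk_eq_mk_iff_isConj, isConj_comm]
    rw [h3, hCt] at h2
    have h4 := Subgroup.card_mul_index N
    have hNpos : 0 < Nat.card N := Nat.card_pos
    have hidxpos : 0 < N.index := Nat.pos_of_ne_zero Subgroup.index_ne_zero_of_finite
    have h5 : Nat.card {g : G // IsConj t g} = N.index := by
      have : Nat.card {g : G // IsConj t g} * Nat.card N = N.index * Nat.card N := by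
        rw [h2, mul_comm, h4]
      exact Nat.eq_of_mul_eq_mul_right hNpos this
    rw [h5, hFcard, mul_comm] at h1
    exact Nat.eq_of_mul_eq_mul_left hidxpos h1
  have hle : Tset.card ≤ Nat.card (centralizer ((P : Subgroup G) : Set G)) + 1 := by
    rw [h6]
    exact card_conj_inter_normalizer_le P hP t ht2 huniq
  -- (iii) the sign
  set σ : Equiv.Perm (G ⧸ N) := MulAction.toPermHom G (G ⧸ N) t with hσ
  have hσ2 : σ ^ 2 = 1 := by
    rw [hσ, ← map_pow, ← ht2, pow_orderOf_eq_one, map_one]
  have hsupp : σ.support = Finset.univ \ Tset := by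
    ext x
    rw [Equiv.Perm.mem_support, Finset.mem_sdiff, hmemT]
    simp [hσ]
  have hcardΩ : Fintype.card (G ⧸ N) = N.index := by
    rw [← Nat.card_eq_fintype_card]; rfl
  have hsuppcard : σ.support.card + Tset.card = N.index := by
    rw [hsupp, Finset.card_sdiff_of_subset (Finset.subset_univ _), Finset.card_univ, hcardΩ]
    have : Tset.card ≤ N.index := by
      rw [← hcardΩ]; exact Finset.card_le_univ _
    omega
  have hσ1 : σ ≠ 1 := by
    intro hσ1
    -- `t` lies in the normal core of `N`
    have hker : t ∈ (MulAction.toPermHom G (G ⧸ N)).ker := MonoidHom.mem_ker.mpr hσ1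
    rw [← Subgroup.normalCore_eq_ker] at hker
    rcases (Subgroup.normalCore_normal N).eq_bot_or_eq_top with h | h
    · rw [h, Subgroup.mem_bot] at hker
      rw [hker, orderOf_one] at ht2
      omega
    · apply hNtop
      rw [eq_top_iff, ← h]
      exact Subgroup.normalCore_le N
  have hσord : orderOf σ = 2 := orderOf_eq_prime hσ2 hσ1
  obtain ⟨m', hm'⟩ := Equiv.Perm.two_dvd_card_support hσ2
  have hsign := sign_of_involution' σ hσord m' hm'
  have hone := sign_toPerm_eq_one' hG2 (Ω := G ⧸ N) t
  rw [← hσ, hsign] at hone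
  have hev : Even m' := by
    by_contra hodd
    rw [Nat.not_even_iff_odd] at hodd
    rw [hodd.neg_one_pow] at hone
    exact absurd hone (by decide)
  obtain ⟨m, hm⟩ := hev
  have hm'pos : 0 < m' := by
    rcases Nat.eq_zero_or_pos m' with h | h
    · exfalso
      rw [h, mul_zero, Finset.card_eq_zero, Equiv.Perm.support_eq_empty_iff] at hm'
      exact hσ1 hm'
    · exact h
  refine ⟨m, by omega, hcong, h6, hle, ?_⟩
  omega

end Cfsg.Agent.Helper39.SimpOrd
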