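import Cfsg.Agent.Helper39.SimpOrd.Kit
import Cfsg.Agent.Helper39.SimpOrd.Parity2
import Cfsg.Agent.Helper17.VTrick

set_option autoImplicit false
set_option linter.style.haveILetI false

namespace Cfsg.Agent.Helper39.SimpOrd

open Subgroup Cfsg.Agent.Helper9 Cfsg.Agent.Helper17

variable {G : Type*} [Group G] [Finite G]

/-- If `|P| = p` is odd and `|C(P)| = 2p`, then `C(P)` has a unique involution, which is
centralized by `N(P)`. -/
theorem unique_involution_centralizer {p : ℕ} [hp : Fact p.Prime] (hp2 : p ≠ 2) (P : Sylow p G)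
    (hP : Nat.card (P : Subgroup G) = p)
    (hC : Nat.card (centralizer ((P : Subgroup G) : Set G)) = 2 * p) :
    ∃ t : G, orderOf t = 2 ∧ t ∈ centralizer ((P : Subgroup G) : Set G) ∧
      (∀ c ∈ centralizer ((P : Subgroup G) : Set G), orderOf c = 2 → c = t) ∧
      normalizer ((P : Subgroup G) : Set G) ≤ centralizer ({t} : Set G) := by
  haveI : Fact (Nat.Prime 2) := ⟨Nat.prime_two⟩
  obtain ⟨t', ht'⟩ := exists_prime_orderOf_dvd_card' (G := ↥(centralizer ((P : Subgroup G) : Set G)))
    2 (by rw [hC]; exact dvd_mul_right 2 p)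
  obtain ⟨t, htdef⟩ : ∃ t : G, t = (t' : G) := ⟨_, rfl⟩
  have ht2 : orderOf t = 2 := by rw [htdef, Subgroup.orderOf_coe, ht']
  have htC : t ∈ centralizer ((P : Subgroup G) : Set G) := by rw [htdef]; exact t'.2
  have htt : t * t = 1 := by
    have := pow_orderOf_eq_one t
    rwa [ht2, pow_two] at this
  -- P is abelian
  have hPC : (P : Subgroup G) ≤ centralizer ((P : Subgroup G) : Set G) := by
    haveI : IsCyclic (P : Subgroup G) := isCyclic_of_prime_card hP
    intro a ha
    rw [Subgroup.mem_centralizer_iff]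
    intro b hb
    have := (IsCyclic.isMulCommutative (α := (P : Subgroup G))).is_comm.comm ⟨b, hb⟩ ⟨a, ha⟩
    exact congrArg Subtype.val this
  have hpodd : ¬ 2 ∣ p := by
    intro h
    exact hp2 ((Nat.prime_dvd_prime_iff_eq Nat.prime_two hp.out).mp h).symm
  have hnotP : ∀ c : G, orderOf c = 2 → c ∉ (P : Subgroup G) := by
    intro c hc hcP
    have := orderOf_dvd_natCard (⟨c, hcP⟩ : (P : Subgroup G))
    rw [hP, Subgroup.orderOf_mk, hc] at this
    exact hpodd this
  have huniq : ∀ c ∈ centralizer ((P : Subgroup G) : Set G), orderOf c = 2 → c = t := by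
    intro c hcC hc2
    have hcc : c * c = 1 := by
      have := pow_orderOf_eq_one c
      rwa [hc2, pow_two] at this
    have hidx : ((P : Subgroup G).subgroupOf (centralizer ((P : Subgroup G) : Set G))).index = 2 := by
      have h1 := Subgroup.card_mul_index
        ((P : Subgroup G).subgroupOf (centralizer ((P : Subgroup G) : Set G)))
      have h2 : Nat.card ((P : Subgroup G).subgroupOf (centralizer ((P : Subgroup G) : Set G))) = p := by
        rw [Nat.card_congr (subgroupOfEquivOfLe hPC).toEquiv, hP]
      rw [h2, hC] at h1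
      have hppos := hp.out.pos
      have : p * ((P : Subgroup G).subgroupOf (centralizer ((P : Subgroup G) : Set G))).index
          = p * 2 := by rw [h1, mul_comm]
      exact Nat.eq_of_mul_eq_mul_left hppos this
    have hmem := Subgroup.mul_mem_iff_of_index_two hidx
      (a := (⟨c, hcC⟩ : ↥(centralizer ((P : Subgroup G) : Set G))))
      (b := (⟨t, htC⟩ : ↥(centralizer ((P : Subgroup G) : Set G))))
    have hyP : c * t ∈ (P : Subgroup G) := by
      have : (⟨c, hcC⟩ : ↥(centralizer ((P : Subgroup G) : Set G))) * ⟨t, htC⟩ ∈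
          (P : Subgroup G).subgroupOf (centralizer ((P : Subgroup G) : Set G)) := by
        rw [hmem]
        constructor
        · intro hx
          exact absurd (Subgroup.mem_subgroupOf.mp hx) (hnotP c hc2)
        · intro hx
          exact absurd (Subgroup.mem_subgroupOf.mp hx) (hnotP t ht2)
      exact Subgroup.mem_subgroupOf.mp this
    have hcomm : c * t * t = t * (c * t) := (Subgroup.mem_centralizer_iff.mp htC) _ hyP
    have hyy : (c * t) ^ 2 = 1 := by
      rw [pow_two]
      calc (c * t) * (c * t) = c * (t * (c * t)) := by group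
        _ = c * (c * t * t) := by rw [hcomm]
        _ = (c * c) * (t * t) := by group
        _ = 1 := by rw [hcc, htt, one_mul]
    have hyp : (c * t) ^ p = 1 := by
      have := pow_card_eq_one' (G := (P : Subgroup G)) (x := ⟨c * t, hyP⟩)
      rw [hP] at this
      exact congrArg Subtype.val this
    have hy1 : c * t = 1 := by
      have h1 : orderOf (c * t) ∣ 2 := orderOf_dvd_of_pow_eq_one hyy
      have h2 : orderOf (c * t) ∣ p := orderOf_dvd_of_pow_eq_one hyp
      have h3 : orderOf (c * t) ∣ Nat.gcd 2 p := Nat.dvd_gcd h1 h2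
      have h4 : Nat.gcd 2 p = 1 := by
        rw [Nat.Prime.coprime_iff_not_dvd Nat.prime_two |>.mpr hpodd]
      rw [h4, Nat.dvd_one] at h3
      exact orderOf_eq_one_iff.mp h3
    calc c = c * (t * t) := by rw [htt, mul_one]
      _ = (c * t) * t := by group
      _ = t := by rw [hy1, one_mul]
  refine ⟨t, ht2, htC, huniq, ?_⟩
  intro n hn
  rw [Subgroup.mem_centralizer_singleton_iff]
  have hmemC : n * t * n⁻¹ ∈ centralizer ((P : Subgroup G) : Set G) := by
    rw [Subgroup.mem_centralizer_iff]
    intro x hx
    have hx' : n⁻¹ * x * n ∈ (P : Subgroup G) := (Subgroup.mem_normalizer_iff''.mp hn x).mp hx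
    have hc := (Subgroup.mem_centralizer_iff.mp htC) _ hx'
    calc x * (n * t * n⁻¹) = n * (n⁻¹ * x * n * t) * n⁻¹ := by group
      _ = n * (t * (n⁻¹ * x * n)) * n⁻¹ := by rw [hc]
      _ = n * t * n⁻¹ * x := by group
  have hord : orderOf (n * t * n⁻¹) = 2 := by
    have := (MulAut.conj n).orderOf_eq t
    rw [MulAut.conj_apply] at this
    rw [this, ht2]
  have := huniq _ hmemC hord
  calc n * t = n * t * n⁻¹ * n := by group
    _ = t * n := by rw [this]

/-- A proper subgroup containing `N(P)` equals `N(P)`, if no proper divisor `k ≠ 1` of `n_p`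
is `≡ 1 mod p`. -/
theorem eq_normalizer_of_le' {p : ℕ} [Fact p.Prime] (P : Sylow p G) (R : Subgroup G)
    (hNR : normalizer ((P : Subgroup G) : Set G) ≤ R) (hR : R ≠ ⊤) (np : ℕ)
    (hnp : Nat.card (Sylow p G) = np)
    (hkey : ∀ k, k ∣ np → k % p = 1 → k = 1 ∨ k = np) :
    R = normalizer ((P : Subgroup G) : Set G) := by
  have hPR : (P : Subgroup G) ≤ R := le_normalizer.trans hNR
  have hcount := card_sylow_of_le P R hPR
  rw [inf_eq_right.mpr hNR] at hcount
  have hmod : Nat.card (Sylow p ↥R) ≡ 1 [MOD p] := card_sylow_modEq_one p _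
  have hidx := Subgroup.card_mul_index R
  have hN := card_normalizer_mul_card_sylow P
  rw [hnp] at hN
  have hNpos : 0 < Nat.card (normalizer ((P : Subgroup G) : Set G)) := Nat.card_pos
  generalize hn : Nat.card (Sylow p ↥R) = n at hcount hmod
  have hni : n * R.index = np := by
    have : Nat.card (normalizer ((P : Subgroup G) : Set G)) * (n * R.index)
        = Nat.card (normalizer ((P : Subgroup G) : Set G)) * np := by
      rw [hN, ← hidx, ← hcount]; ring
    exact Nat.eq_of_mul_eq_mul_left hNpos this
  have hp1 : 1 < p := (Fact.out : p.Prime).one_lt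
  have hmod' : n % p = 1 := by
    have := hmod
    unfold Nat.ModEq at this
    rw [this]
    exact Nat.mod_eq_of_lt hp1
  rcases hkey n ⟨R.index, hni.symm⟩ hmod' with h1 | h1
  · symm
    apply Subgroup.eq_of_le_of_card_ge hNR
    rw [← hcount, h1, one_mul]
  · exfalso
    apply hR
    rw [← Subgroup.index_eq_one]
    rw [h1] at hni
    have hnp0 : 0 < np := by
      rw [← hnp]; exact Nat.card_pos
    have : np * R.index = np * 1 := by rw [hni, mul_one]
    exact Nat.eq_of_mul_eq_mul_left hnp0 this

end Cfsg.Agent.Helper39.SimpOrd
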