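import Cfsg.Agent.Helper39.SimpOrd.Kit
import Cfsg.Agent.Helper17.ExcApply

set_option autoImplicit false

namespace Cfsg.Agent.Helper39.SimpOrd

open Subgroup Cfsg.Agent.Helper9 Cfsg.Agent.Helper17 Cfsg.Agent.Helper17.Exc

variable {G : Type*} [Group G] [Finite G] [IsSimpleGroup G]

/-- Brauer's degree equation with `|N(P)| = 2p` kills the order. -/
theorem kill_brauer_two (p m np : ℕ) (hp : p.Prime) (hp9 : 9 ≤ p)
    (hcard : Nat.card G = p ^ 1 * m) (hm : ¬ p ∣ m) (hm1 : m ≠ 1)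
    (hL : npList p 1 m = [np]) (hN : (p * 2) * np = p ^ 1 * m) (hnp0 : np ≠ 0)
    (key1 : ∀ d₁ ∈ Nat.divisors (p ^ 1 * m), 1 < d₁ → d₁ % p = 1 → ¬ (d₁ + 1 ∣ p ^ 1 * m))
    (key2 : ∀ d ∈ Nat.divisors (p ^ 1 * m), d % p = p - 2 → ¬ (d + 1 ∣ p ^ 1 * m)) : False := by
  haveI : Fact p.Prime := ⟨hp⟩
  have hm0 : m ≠ 0 := fun h => hm (h ▸ dvd_zero p)
  have hnprime : ¬ (Nat.card G).Prime := by
    rw [hcard, pow_one]
    exact Nat.not_prime_mul hp.one_lt.ne' hm1
  have hG : ¬ IsMulCommutative G := not_comm_of_simple_of_not_prime hnprime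
  obtain ⟨P⟩ : Nonempty (Sylow p G) := inferInstance
  have hP : Nat.card (P : Subgroup G) = p := by
    have := card_sylow_subgroup_of_card_eq hcard hm P
    simpa using this
  have hmem := card_sylow_mem_npList hG p 1 m hp hcard hm (by norm_num) hm1
  rw [hL, List.mem_singleton] at hmem
  have hNc : Nat.card (normalizer ((P : Subgroup G) : Set G)) = p * 2 :=
    card_normalizer_of_card_sylow P hcard hmem hN hnp0
  have hGp : Nat.card G ≠ p := by
    rw [hcard, pow_one]
    intro h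
    have : p * m = p * 1 := by rw [mul_one]; exact h
    exact hm1 (Nat.eq_of_mul_eq_mul_left hp.pos this)
  have hC := self_centralizing_setup P hP hGp hNc (by
    intro d hd1 _ hd2
    have := Nat.le_of_dvd (by norm_num) hd2
    omega)
  have hperf : commutator G = ⊤ := commutator_eq_top_of_simple hnprime
  obtain ⟨δ, ε, d₁, d, r, hδ, hε, hd₁, hd, hd₁1, hc₁, hc, heq, _, _⟩ :=
    brauer_two hperf (P : Subgroup G) hp hP hC hNc hp9
  rw [hcard] at hd₁ hd
  have hn0 : p ^ 1 * m ≠ 0 := by rw [pow_one]; exact Nat.mul_ne_zero hp.pos.ne' hm0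
  have hd₁m : d₁ ∈ Nat.divisors (p ^ 1 * m) := Nat.mem_divisors.mpr ⟨hd₁, hn0⟩
  have hdm : d ∈ Nat.divisors (p ^ 1 * m) := Nat.mem_divisors.mpr ⟨hd, hn0⟩
  have hdpos : 0 < d := Nat.pos_of_dvd_of_pos hd (Nat.pos_of_ne_zero hn0)
  rcases hδ with rfl | rfl <;> rcases hε with rfl | rfl
  · -- d = d₁ + 1
    have e1 : d = d₁ + 1 := by omega
    refine key1 d₁ hd₁m hd₁1 ?_ ?_
    · have h1 : ((d₁ : ℤ)) % (p : ℤ) = 1 % (p : ℤ) := hc₁
      have h2 : (1 : ℤ) % (p : ℤ) = 1 := Int.emod_eq_of_lt (by norm_num) (by exact_mod_cast hp.one_lt)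
      rw [h2] at h1
      exact_mod_cast h1
    · rw [← e1]; exact hd
  · omega
  · omega
  · -- d₁ = d + 1
    have e1 : d₁ = d + 1 := by omega
    refine key2 d hdm ?_ ?_
    · have h1 : ((d : ℤ)) % (p : ℤ) = (-1 * 2) % (p : ℤ) := hc
      have h2 : (-1 * 2 : ℤ) % (p : ℤ) = ((p - 2 : ℕ) : ℤ) := by
        have hp2 : 2 ≤ p := hp.two_le
        rw [Nat.cast_sub hp2]
        have : (-1 * 2 : ℤ) = ((p : ℤ) - 2) + (-1) * (p : ℤ) := by ring
        rw [this, Int.add_mul_emod_self_right]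
        apply Int.emod_eq_of_lt <;> omega
      rw [h2] at h1
      exact_mod_cast h1
    · rw [← e1]; exact hd₁

set_option maxRecDepth 100000 in
theorem no_simple_612 (h : Nat.card G = 612) : False :=
  kill_brauer_two 17 36 18 (by norm_num) (by norm_num) (by rw [h]; norm_num) (by norm_num)
    (by norm_num) (by decide +kernel) (by norm_num) (by norm_num) (by decide +kernel)
    (by decide +kernel)

set_option maxRecDepth 100000 in
theorem no_simple_1040 (h : Nat.card G = 1040) : False :=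
  kill_brauer_two 13 80 40 (by norm_num) (by norm_num) (by rw [h]; norm_num) (by norm_num)
    (by norm_num) (by decide +kernel) (by norm_num) (by norm_num) (by decide +kernel)
    (by decide +kernel)

end Cfsg.Agent.Helper39.SimpOrd
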