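import Cfsg.Agent.Helper39.SimpOrd.Kit

set_option autoImplicit false

namespace Cfsg.Agent.Helper39.SimpOrd

open Subgroup Cfsg.Agent.Helper9 Cfsg.Agent.Helper17

variable {G : Type*} [Group G] [Finite G] [IsSimpleGroup G]

/-- Order 900: `n_5 = 36`, so `N(P) = P` is abelian of order 25. -/
theorem no_simple_900 (h : Nat.card G = 900) : False := by
  have hG : ¬ IsMulCommutative G := not_comm_of_simple_of_not_prime (by rw [h]; norm_num)
  haveI : Fact (Nat.Prime 5) := ⟨by norm_num⟩
  have hcard : Nat.card G = 5 ^ 2 * 36 := by rw [h]; norm_num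
  obtain ⟨P⟩ : Nonempty (Sylow 5 G) := inferInstance
  have hP : Nat.card (P : Subgroup G) = 5 ^ 2 := card_sylow_subgroup_of_card_eq hcard (by norm_num) P
  have hmem := card_sylow_mem_npList hG 5 2 36 (by norm_num) hcard (by norm_num) (by norm_num)
    (by norm_num)
  have hL : npList 5 2 36 = [36] := by decide +kernel
  rw [hL, List.mem_singleton] at hmem
  have hN : Nat.card (normalizer ((P : Subgroup G) : Set G)) = 25 :=
    card_normalizer_of_card_sylow P h hmem (by norm_num) (by norm_num)
  have hNP : normalizer ((P : Subgroup G) : Set G) = (P : Subgroup G) := by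
    symm
    apply Subgroup.eq_of_le_of_card_ge le_normalizer
    rw [hN, hP]; norm_num
  have hcomm : ∀ a b : (P : Subgroup G), a * b = b * a :=
    (IsPGroup.isMulCommutative_of_card_eq_prime_sq (p := 5) (by rw [hP])).is_comm.comm
  apply not_normalizer_le_centralizer_of_simple P (by rw [hP]; norm_num) (by rw [hP, h]; norm_num)
  rw [hNP]
  intro a ha
  rw [Subgroup.mem_centralizer_iff]
  intro b hb
  exact congrArg Subtype.val (hcomm ⟨b, hb⟩ ⟨a, ha⟩)

end Cfsg.Agent.Helper39.SimpOrd
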