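import Cfsg.Agent.Helper39.SimpOrd.Kit
import Cfsg.Agent.Helper17.SylowInter

set_option autoImplicit false

namespace Cfsg.Agent.Helper39.SimpOrd

open Subgroup Cfsg.Agent.Helper9 Cfsg.Agent.Helper17

variable {G : Type*} [Group G] [Finite G] [IsSimpleGroup G]

omit [Finite G] [IsSimpleGroup G] in
theorem le_normalizer_inf_of_index_two {P R : Subgroup G} (h : (R.subgroupOf P).index = 2) :
    P ≤ normalizer ((P ⊓ R : Subgroup G) : Set G) := by
  haveI : ((P ⊓ R).subgroupOf P).Normal := by
    rw [inf_subgroupOf_left]; exact Subgroup.normal_of_index_eq_two h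
  exact Subgroup.le_normalizer_of_normal_subgroupOf inf_le_left

/-- If `n_2 ≢ 1 mod 4`, two Sylow 2-subgroups meet in a subgroup of index 2, whose normalizer
has index at most `m / 3`. -/
theorem kill_sylow_two_inter (hG : ¬ IsMulCommutative G) (k m : ℕ)
    (hcard : Nat.card G = 2 ^ k * m) (hm : ¬ 2 ∣ m) (hk : 2 ≤ k)
    (hnmod : ¬ Nat.card (Sylow 2 G) ≡ 1 [MOD 2 ^ 2])
    (hfac : ¬ 2 * (2 ^ k * m) ∣ (m / 3).factorial) : False := by
  haveI : Fact (Nat.Prime 2) := ⟨Nat.prime_two⟩
  have hm0 : m ≠ 0 := fun h => hm (h ▸ dvd_zero 2)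
  obtain ⟨P, R, hPR, hidx⟩ := exists_sylow_pair_large_inter 2 2 hnmod
  have hcardP : ∀ S : Sylow 2 G, Nat.card (S : Subgroup G) = 2 ^ k := fun S =>
    card_sylow_subgroup_of_card_eq hcard hm S
  set D : Subgroup G := (P : Subgroup G) ⊓ (R : Subgroup G) with hD
  have h1 : ((R : Subgroup G).subgroupOf (P : Subgroup G)).index * Nat.card D = 2 ^ k := by
    rw [← hcardP P]; exact index_subgroupOf_mul_card_inf (P : Subgroup G) (R : Subgroup G)
  have h1' : ((P : Subgroup G).subgroupOf (R : Subgroup G)).index * Nat.card D = 2 ^ k := by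
    rw [← hcardP R, hD, inf_comm]
    exact index_subgroupOf_mul_card_inf (R : Subgroup G) (P : Subgroup G)
  have h2 : ((R : Subgroup G).subgroupOf (P : Subgroup G)).index ≤ 2 := by simpa using hidx
  have h0 : ((R : Subgroup G).subgroupOf (P : Subgroup G)).index ≠ 0 :=
    Subgroup.index_ne_zero_of_finite
  have hne1 : ((R : Subgroup G).subgroupOf (P : Subgroup G)).index ≠ 1 := by
    intro h
    apply hPR
    have hle : (P : Subgroup G) ≤ (R : Subgroup G) := by
      have := Subgroup.index_eq_one.mp h
      rw [Subgroup.subgroupOf_eq_top] at this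
      exact this
    have heq : (P : Subgroup G) = (R : Subgroup G) :=
      Subgroup.eq_of_le_of_card_ge hle (by rw [hcardP P, hcardP R])
    exact Sylow.ext heq
  have hi2 : ((R : Subgroup G).subgroupOf (P : Subgroup G)).index = 2 := by omega
  have hDcard : 2 * Nat.card D = 2 ^ k := by rw [← h1, hi2]
  have hi2' : ((P : Subgroup G).subgroupOf (R : Subgroup G)).index = 2 := by
    have hDpos : 0 < Nat.card D := Nat.card_pos
    have : ((P : Subgroup G).subgroupOf (R : Subgroup G)).index * Nat.card D = 2 * Nat.card D := by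
      rw [h1', hDcard]
    exact Nat.eq_of_mul_eq_mul_right hDpos this
  have hPN : (P : Subgroup G) ≤ normalizer (D : Set G) := le_normalizer_inf_of_index_two hi2
  have hRN : (R : Subgroup G) ≤ normalizer (D : Set G) := by
    rw [hD, inf_comm]; exact le_normalizer_inf_of_index_two hi2'
  obtain ⟨n, m', hn1, -, hcardN⟩ := card_ge_of_two_sylow_le P R hPR hPN hRN
  rw [hcardP P] at hcardN
  have hk' : 2 ^ k = 2 * 2 ^ (k - 1) := by
    rw [← pow_succ']; congr 1; omega
  have hDc : Nat.card D = 2 ^ (k - 1) := by
    have : 2 * Nat.card D = 2 * 2 ^ (k - 1) := by rw [hDcard, hk']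
    exact Nat.eq_of_mul_eq_mul_left (by norm_num) this
  have hk1 : 2 ≤ 2 ^ (k - 1) := by
    calc 2 = 2 ^ 1 := by norm_num
      _ ≤ 2 ^ (k - 1) := Nat.pow_le_pow_right (by norm_num) (by omega)
  have hm3 : 3 ≤ m := by
    rcases Nat.lt_or_ge m 3 with h | h
    · interval_cases m
      · exact absurd rfl hm0
      · -- m = 1 : N(D) would be too big
        exfalso
        have hle := Subgroup.card_le_card_group (normalizer (D : Set G))
        rw [hcardN, hcard] at hle
        have : 2 ^ k * (3 * 1) ≤ 2 ^ k * (n * m') := by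
          apply Nat.mul_le_mul_left
          have hm'0 : m' ≠ 0 := by
            rintro rfl
            have hpos : 0 < Nat.card (normalizer (D : Set G)) := Nat.card_pos
            rw [hcardN] at hpos; simp at hpos
          exact Nat.mul_le_mul hn1 (Nat.pos_of_ne_zero hm'0)
        have hpos : 0 < 2 ^ k := by positivity
        nlinarith
      · exact absurd (dvd_refl 2) hm
    · exact h
  have hNne : normalizer (D : Set G) ≠ ⊤ := by
    apply normalizer_ne_top_of_simple D
    · rw [hDc]; omega
    · rw [hDc, hcard, hk']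
      intro h
      have hpos : 0 < 2 ^ (k - 1) := by positivity
      nlinarith
  have hidxN := Subgroup.card_mul_index (normalizer (D : Set G))
  rw [hcardN, hcard] at hidxN
  have hm'0 : m' ≠ 0 := by
    rintro rfl
    simp at hidxN
    omega
  have hidxle : (normalizer (D : Set G)).index ≤ m / 3 := by
    rw [Nat.le_div_iff_mul_le (by norm_num)]
    have hpos : 0 < 2 ^ k := by positivity
    have h3 : n * m' * (normalizer (D : Set G)).index = m := by
      have : 2 ^ k * (n * m' * (normalizer (D : Set G)).index) = 2 ^ k * m := by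
        rw [← hidxN]; ring
      exact Nat.eq_of_mul_eq_mul_left hpos this
    have h4 : 3 * 1 ≤ n * m' := Nat.mul_le_mul hn1 (Nat.pos_of_ne_zero hm'0)
    calc (normalizer (D : Set G)).index * 3 = 3 * 1 * (normalizer (D : Set G)).index := by ring
      _ ≤ n * m' * (normalizer (D : Set G)).index := Nat.mul_le_mul_right _ h4
      _ = m := h3
  have := two_mul_card_dvd_factorial_of_index_le hG _ hNne hidxle
  rw [hcard] at this
  exact hfac this

theorem no_simple_480 (h : Nat.card G = 480) : False := by
  have hG : ¬ IsMulCommutative G := not_comm_of_simple_of_not_prime (by rw [h]; norm_num)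
  have hcard : Nat.card G = 2 ^ 5 * 15 := by rw [h]; norm_num
  have hmem := card_sylow_mem_npList hG 2 5 15 (by norm_num) hcard (by norm_num) (by norm_num)
    (by norm_num)
  have hL : npList 2 5 15 = [15] := by decide +kernel
  rw [hL, List.mem_singleton] at hmem
  exact kill_sylow_two_inter hG 5 15 hcard (by norm_num) (by norm_num) (by rw [hmem]; decide)
    (by decide)

theorem no_simple_960 (h : Nat.card G = 960) : False := by
  have hG : ¬ IsMulCommutative G := not_comm_of_simple_of_not_prime (by rw [h]; norm_num)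
  have hcard : Nat.card G = 2 ^ 6 * 15 := by rw [h]; norm_num
  have hmem := card_sylow_mem_npList hG 2 6 15 (by norm_num) hcard (by norm_num) (by norm_num)
    (by norm_num)
  have hL : npList 2 6 15 = [15] := by decide +kernel
  rw [hL, List.mem_singleton] at hmem
  exact kill_sylow_two_inter hG 6 15 hcard (by norm_num) (by norm_num) (by rw [hmem]; decide)
    (by decide)

end Cfsg.Agent.Helper39.SimpOrd
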