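import Cfsg.Agent.Helper39.SimpOrd.Kit
import Cfsg.Agent.Helper17.LemmaR

set_option autoImplicit false
set_option linter.style.haveILetI false

namespace Cfsg.Agent.Helper39.SimpOrd

open Subgroup Cfsg.Agent.Helper9 Cfsg.Agent.Helper17

variable {G : Type*} [Group G] [Finite G] [IsSimpleGroup G]

/-- Order 840: `n_7 = 8` dies by Lemma N, `n_7 = 15` by Lemma R. -/
theorem no_simple_840 (h : Nat.card G = 840) : False := by
  have hG : ¬ IsMulCommutative G := not_comm_of_simple_of_not_prime (by rw [h]; norm_num)
  haveI : Fact (Nat.Prime 7) := ⟨by norm_num⟩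
  haveI : Fact (Nat.Prime 2) := ⟨by norm_num⟩
  have hcard : Nat.card G = 7 ^ 1 * 120 := by rw [h]; norm_num
  obtain ⟨P⟩ : Nonempty (Sylow 7 G) := inferInstance
  have hP : Nat.card (P : Subgroup G) = 7 := by
    simpa using card_sylow_subgroup_of_card_eq hcard (by norm_num) P
  have hmem := card_sylow_mem_npList hG 7 1 120 (by norm_num) hcard (by norm_num) (by norm_num)
    (by norm_num)
  have hL : npList 7 1 120 = [8, 15] := by decide +kernel
  rw [hL] at hmem
  simp only [List.mem_cons, List.mem_nil_iff, or_false] at hmem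
  rcases hmem with h8 | h15
  · exact kill_succ hG P h (by norm_num) h8 (N := 105) (by norm_num) (by norm_num)
  · have hN : Nat.card (normalizer ((P : Subgroup G) : Set G)) = 56 :=
      card_normalizer_of_card_sylow P h h15 (by norm_num) (by norm_num)
    obtain ⟨hd1, hd2⟩ := relIndex_dvd_of_card_sylow_prime P hP
    have hcm := card_centralizer_mul_relIndex (P : Subgroup G)
    have hne : ¬ (normalizer ((P : Subgroup G) : Set G) ≤ centralizer ((P : Subgroup G) : Set G)) :=
      not_normalizer_le_centralizer_of_simple P (by rw [hP]; norm_num) (by rw [hP, h]; norm_num)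
    have h1' : (centralizer ((P : Subgroup G) : Set G)).relIndex
      (normalizer ((P : Subgroup G) : Set G)) ≠ 1 := fun h => hne (Subgroup.relIndex_eq_one.mp h)
    generalize hdd : (centralizer ((P : Subgroup G) : Set G)).relIndex
      (normalizer ((P : Subgroup G) : Set G)) = d at hd1 hd2 hcm h1'
    rw [hN] at hd2 hcm
    have hd8 : d ∣ 8 := by
      have : 7 * d ∣ 7 * 8 := hd2
      exact (Nat.mul_dvd_mul_iff_left (by norm_num)).mp this
    have hd2' : d = 2 := by
      have h2 : d ∣ Nat.gcd 8 6 := Nat.dvd_gcd hd8 hd1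
      have h3 : d ≤ 2 := Nat.le_of_dvd (by norm_num) h2
      have h4 : d ≠ 0 := by rintro rfl; simp at hd8
      omega
    rw [hd2'] at hcm
    have hC : Nat.card (centralizer ((P : Subgroup G) : Set G)) = 28 := by omega
    obtain ⟨W₁⟩ : Nonempty (Sylow 2 ↥(centralizer ((P : Subgroup G) : Set G))) := inferInstance
    have hW₁ : Nat.card (W₁ : Subgroup ↥(centralizer ((P : Subgroup G) : Set G))) = 4 := by
      have := card_sylow_subgroup_of_card_eq (G := ↥(centralizer ((P : Subgroup G) : Set G)))
        (p := 2) (k := 2) (m := 7) (by rw [hC]; norm_num) (by norm_num) W₁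
      simpa using this
    set W : Subgroup G := (W₁ : Subgroup ↥(centralizer ((P : Subgroup G) : Set G))).map
      (centralizer ((P : Subgroup G) : Set G)).subtype with hWdef
    have hW4 : Nat.card W = 4 := by
      rw [hWdef, Subgroup.card_map_of_injective (Subgroup.subtype_injective _), hW₁]
    have hWC : W ≤ centralizer ((P : Subgroup G) : Set G) := by
      rw [hWdef]
      rintro _ ⟨x, -, rfl⟩
      exact x.2
    have hWp : IsPGroup 2 W := IsPGroup.of_card (n := 2) (by rw [hW4]; norm_num)
    have := card_dvd_of_le_centralizer_sylow P (q := 2) (by norm_num) (by rw [h15]) W hWp hWC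
    rw [hW4] at this
    norm_num at this

end Cfsg.Agent.Helper39.SimpOrd
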