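import Cfsg.Agent.Helper39.SimpOrd.Kit
import Cfsg.Agent.Helper17.ExcApply

set_option autoImplicit false

namespace Cfsg.Agent.Helper39.SimpOrd

open Subgroup Cfsg Cfsg.Agent Cfsg.Agent.Helper9 Cfsg.Agent.Helper17 Cfsg.Agent.Helper17.Exc

universe u

/-- **Brauer's degree equation**, `e = 3`, `p = 7` (two exceptional characters; the constant `c`
need not vanish, but the two possibilities are exchanged by `ε ↦ -ε`). -/
theorem brauer_three_seven {G : Type u} [Group G] [Finite G] (hperf : commutator G = ⊤)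
    (K : Subgroup G) (hK : Nat.card K = 7)
    (hC : ∀ k ∈ K, k ≠ 1 → Subgroup.centralizer ({k} : Set G) ≤ K)
    (hN : Nat.card (Subgroup.normalizer (K : Set G)) = 7 * 3) :
    ∃ (δ₁ δ₂ ε : ℤ) (d₁ d₂ d : ℕ), (δ₁ = 1 ∨ δ₁ = -1) ∧ (δ₂ = 1 ∨ δ₂ = -1) ∧
      (ε = 1 ∨ ε = -1) ∧ d₁ ∣ Nat.card G ∧ d₂ ∣ Nat.card G ∧ d ∣ Nat.card G ∧ 1 < d₁ ∧ 1 < d₂ ∧
      ((d₁ : ℤ) ≡ δ₁ [ZMOD 7]) ∧ ((d₂ : ℤ) ≡ δ₂ [ZMOD 7]) ∧
      ((d : ℤ) ≡ ε * 3 [ZMOD 7]) ∧ 1 + δ₁ * d₁ + δ₂ * d₂ = d * ε ∧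
      1 + d₁ ^ 2 + d₂ ^ 2 + 2 * d ^ 2 ≤ Nat.card G := by
  classical
  let _ : Fintype G := Fintype.ofFinite G
  let _ : Fintype ↥(Subgroup.normalizer (K : Set G)) := Fintype.ofFinite _
  have hp : Nat.Prime 7 := by norm_num
  obtain ⟨D, hidx, hcount⟩ := exists_excData K hp hK hC hN (by norm_num) (by norm_num)
  have ht : Nat.card (Rel K) = 2 := by omega
  obtain ⟨c, d, a, s, h1, h2, h3, h4, h5, h6, h7, h8⟩ := D.main (by omega)
  rw [hidx, hK] at h2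
  rw [hidx, ht] at h6
  rw [ht] at h7 h8
  push_cast at h2 h6 h7
  have hε := D.hε
  -- the sum of squares is at least one
  have hge : 1 ≤ ∑ ψ ∈ s, a ψ ^ 2 := by
    rw [← Finset.add_sum_erase s _ h3, h4]
    have : 0 ≤ ∑ ψ ∈ s.erase (Helper79.principalIrr G), a ψ ^ 2 :=
      Finset.sum_nonneg (fun j _ => sq_nonneg _)
    linarith
  rw [h6] at hge
  -- c = 0 or c = ε
  have hc : c = 0 ∨ c = D.ε := by
    rcases hε with he | he <;> rw [he] at hge ⊢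
    · have h1' : c ≤ 1 := by nlinarith
      have h2' : 0 ≤ c := by nlinarith
      omega
    · have h1' : -1 ≤ c := by nlinarith
      have h2' : c ≤ 0 := by nlinarith
      omega
  have hsum3 : ∑ ψ ∈ s, a ψ ^ 2 = 3 := by
    rw [h6]
    rcases hc with hc | hc <;> rcases hε with he | he <;> rw [hc] <;> try rw [he]
    all_goals norm_num
  have hsq := Finset.add_sum_erase s (fun ψ => a ψ ^ 2) h3
  rw [hsum3, h4] at hsq
  have hsq' : ∑ ψ ∈ s.erase (Helper79.principalIrr G), a ψ ^ 2 = 2 := by linarith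
  obtain ⟨ψ₁, hψ₁, ψ₂, hψ₂, h12, haψ₁, haψ₂, hrest⟩ := sq_sum_two _ a hsq'
  have hψ₁s := Finset.mem_of_mem_erase hψ₁
  have hψ₁ne := Finset.ne_of_mem_erase hψ₁
  have hψ₂s := Finset.mem_of_mem_erase hψ₂
  have hψ₂ne := Finset.ne_of_mem_erase hψ₂
  have hdeg := Finset.add_sum_erase s (fun ψ => a ψ * (charDegree (ψ : G → ℂ) : ℤ)) h3
  rw [h7, h4, charDegree_principal,
    sum_eq_of_support_two _ a (fun ψ => (charDegree (ψ : G → ℂ) : ℤ)) hψ₁ hψ₂ h12 hrest] at hdeg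
  have hcong₁ := h5 ψ₁ hψ₁s
  have hcong₂ := h5 ψ₂ hψ₂s
  rw [hK] at hcong₁ hcong₂
  push_cast at hcong₁ hcong₂
  -- the sign to use
  obtain ⟨ε', hε', hd', hdeg'⟩ : ∃ ε' : ℤ, (ε' = 1 ∨ ε' = -1) ∧ ((d : ℤ) ≡ ε' * 3 [ZMOD 7]) ∧
      1 + a ψ₁ * (charDegree (ψ₁ : G → ℂ) : ℤ) + a ψ₂ * (charDegree (ψ₂ : G → ℂ) : ℤ)
        = (d : ℤ) * ε' := by
    rcases hc with hc | hc
    · refine ⟨D.ε, hε, ?_, ?_⟩
      · rw [hc, add_zero] at h2; exact h2
      · rw [hc] at hdeg; push_cast at hdeg; linarith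
    · refine ⟨-D.ε, ?_, ?_, ?_⟩
      · rcases hε with he | he <;> rw [he] <;> norm_num
      · rw [hc] at h2
        have : D.ε * 3 + D.ε ≡ -D.ε * 3 [ZMOD 7] := by
          rcases hε with he | he <;> rw [he] <;> decide
        exact h2.trans this
      · rw [hc] at hdeg; push_cast at hdeg; linarith
  refine ⟨a ψ₁, a ψ₂, ε', charDegree (ψ₁ : G → ℂ), charDegree (ψ₂ : G → ℂ), d,
    haψ₁, haψ₂, hε',
    Helper80.IsIrrCharacter.charDegree_dvd_card ψ₁.2,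
    Helper80.IsIrrCharacter.charDegree_dvd_card ψ₂.2, h1,
    one_lt_charDegree_of_perfect hperf ψ₁ hψ₁ne,
    one_lt_charDegree_of_perfect hperf ψ₂ hψ₂ne, hcong₁, hcong₂, hd', hdeg', ?_⟩
  rw [← h8]
  have e1 := Finset.add_sum_erase s (fun ψ => charDegree (ψ : G → ℂ) ^ 2) h3
  have e2 := Finset.add_sum_erase (s.erase (Helper79.principalIrr G))
    (fun ψ => charDegree (ψ : G → ℂ) ^ 2) hψ₁
  have e3 := Finset.single_le_sum (f := fun ψ : IrrCharacter G => charDegree (ψ : G → ℂ) ^ 2)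
    (fun _ _ => Nat.zero_le _) (Finset.mem_erase.mpr ⟨h12.symm, hψ₂⟩)
  rw [charDegree_principal] at e1
  omega

variable {G : Type*} [Group G] [Finite G] [IsSimpleGroup G]

set_option maxRecDepth 100000 in
theorem key756A : ∀ x ∈ Nat.divisors 756, 1 < x → x ≤ 27 → (x % 7 = 1 ∨ x % 7 = 6) →
    (x = 6 ∨ x = 27) ∧ x % 7 = 6 := by decide +kernel

set_option maxRecDepth 100000 in
theorem key756B : ∀ x ∈ Nat.divisors 756, x ≤ 19 →
    (x % 7 = 3 → x = 3) ∧ (x % 7 = 4 → x = 4 ∨ x = 18) := by decide +kernel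

/-- Order 756: `n_7 = 36`, `N(P_7)` Frobenius of order 21, exceptional characters. -/
theorem no_simple_756 (h : Nat.card G = 756) : False := by
  have hnp : ¬ (Nat.card G).Prime := by rw [h]; norm_num
  have hG : ¬ IsMulCommutative G := not_comm_of_simple_of_not_prime hnp
  haveI : Fact (Nat.Prime 7) := ⟨by norm_num⟩
  have hcard : Nat.card G = 7 ^ 1 * 108 := by rw [h]; norm_num
  obtain ⟨P⟩ : Nonempty (Sylow 7 G) := inferInstance
  have hP : Nat.card (P : Subgroup G) = 7 := by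
    simpa using card_sylow_subgroup_of_card_eq hcard (by norm_num) P
  have hmem := card_sylow_mem_npList hG 7 1 108 (by norm_num) hcard (by norm_num) (by norm_num)
    (by norm_num)
  have hL : npList 7 1 108 = [36] := by decide +kernel
  rw [hL, List.mem_singleton] at hmem
  have hN : Nat.card (normalizer ((P : Subgroup G) : Set G)) = 7 * 3 :=
    card_normalizer_of_card_sylow P h hmem (by norm_num) (by norm_num)
  have hC := self_centralizing_setup P hP (by rw [h]; norm_num) hN (by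
    intro d hd1 _ hd2
    have := Nat.le_of_dvd (by norm_num) hd2
    interval_cases d
    · norm_num at hd2
    · rfl)
  have hperf : commutator G = ⊤ := commutator_eq_top_of_simple hnp
  obtain ⟨δ₁, δ₂, ε, d₁, d₂, d, hδ₁, hδ₂, hε, hd₁, hd₂, hd, h1d₁, h1d₂, hc₁, hc₂, hc, heq, hsq⟩ :=
    brauer_three_seven hperf (P : Subgroup G) hP hC hN
  rw [h] at hd₁ hd₂ hd hsq
  have hd₁m : d₁ ∈ Nat.divisors 756 := Nat.mem_divisors.mpr ⟨hd₁, by norm_num⟩
  have hd₂m : d₂ ∈ Nat.divisors 756 := Nat.mem_divisors.mpr ⟨hd₂, by norm_num⟩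
  have hdm : d ∈ Nat.divisors 756 := Nat.mem_divisors.mpr ⟨hd, by norm_num⟩
  have hb₁ : d₁ ≤ 27 := by nlinarith
  have hb₂ : d₂ ≤ 27 := by nlinarith
  have hb : d ≤ 19 := by nlinarith
  unfold Int.ModEq at hc₁ hc₂ hc
  have hm₁ : d₁ % 7 = 1 ∨ d₁ % 7 = 6 := by rcases hδ₁ with rfl | rfl <;> omega
  have hm₂ : d₂ % 7 = 1 ∨ d₂ % 7 = 6 := by rcases hδ₂ with rfl | rfl <;> omega
  obtain ⟨hv₁, hr₁⟩ := key756A d₁ hd₁m h1d₁ hb₁ hm₁
  obtain ⟨hv₂, hr₂⟩ := key756A d₂ hd₂m h1d₂ hb₂ hm₂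
  obtain ⟨hB3, hB4⟩ := key756B d hdm hb
  have hδ₁' : δ₁ = -1 := by rcases hδ₁ with rfl | rfl <;> omega
  have hδ₂' : δ₂ = -1 := by rcases hδ₂ with rfl | rfl <;> omega
  subst hδ₁' hδ₂'
  rcases hε with rfl | rfl
  · have : d = 3 := hB3 (by omega)
    omega
  · have : d = 4 ∨ d = 18 := hB4 (by omega)
    rcases hv₁ with rfl | rfl <;> rcases hv₂ with rfl | rfl <;> rcases this with rfl | rfl <;>
      omega

end Cfsg.Agent.Helper39.SimpOrd
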