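import Cfsg.Agent.Helper39.SimpOrd.KitC
import Cfsg.Agent.Helper17.VTrick

set_option autoImplicit false
set_option linter.style.haveILetI false

namespace Cfsg.Agent.Helper39.SimpOrd

open Subgroup Cfsg.Agent.Helper9 Cfsg.Agent.Helper17

variable {G : Type*} [Group G] [Finite G] [IsSimpleGroup G]

/-- Order 420: `n_7 = 15`, `|C(P_7)| = 14`, the involution `t` of `C(P_7)` has `C(t) = N(P_7)`,
and the parity count on the 15 Sylow 7-subgroups is impossible. -/
theorem no_simple_420 (h : Nat.card G = 420) : False := by
  have hG : ¬ IsMulCommutative G := not_comm_of_simple_of_not_prime (by rw [h]; norm_num)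
  haveI : Fact (Nat.Prime 7) := ⟨by norm_num⟩
  have hcard : Nat.card G = 7 ^ 1 * 60 := by rw [h]; norm_num
  obtain ⟨P⟩ : Nonempty (Sylow 7 G) := inferInstance
  have hP : Nat.card (P : Subgroup G) = 7 := by
    simpa using card_sylow_subgroup_of_card_eq hcard (by norm_num) P
  have hmem := card_sylow_mem_npList hG 7 1 60 (by norm_num) hcard (by norm_num) (by norm_num)
    (by norm_num)
  have hL : npList 7 1 60 = [15] := by decide +kernel
  rw [hL, List.mem_singleton] at hmem
  have hN : Nat.card (normalizer ((P : Subgroup G) : Set G)) = 28 :=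
    card_normalizer_of_card_sylow P h hmem (by norm_num) (by norm_num)
  have hidxN : (normalizer ((P : Subgroup G) : Set G)).index = 15 := by
    rw [← hmem]; exact (P.card_eq_index_normalizer).symm
  have hNtop : normalizer ((P : Subgroup G) : Set G) ≠ ⊤ :=
    normalizer_sylow_ne_top P (by rw [hmem]; norm_num)
  obtain ⟨hd1, hd2⟩ := relIndex_dvd_of_card_sylow_prime P hP
  have hcm := card_centralizer_mul_relIndex (P : Subgroup G)
  have hne : ¬ (normalizer ((P : Subgroup G) : Set G) ≤ centralizer ((P : Subgroup G) : Set G)) :=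
    not_normalizer_le_centralizer_of_simple P (by rw [hP]; norm_num) (by rw [hP, h]; norm_num)
  have h1' : (centralizer ((P : Subgroup G) : Set G)).relIndex
    (normalizer ((P : Subgroup G) : Set G)) ≠ 1 := fun h => hne (Subgroup.relIndex_eq_one.mp h)
  generalize hdd : (centralizer ((P : Subgroup G) : Set G)).relIndex
    (normalizer ((P : Subgroup G) : Set G)) = d at hd1 hd2 hcm h1'
  rw [hN] at hd2 hcm
  have hd4 : d ∣ 4 := by
    have : 7 * d ∣ 7 * 4 := hd2
    exact (Nat.mul_dvd_mul_iff_left (by norm_num)).mp this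
  have hd2' : d = 2 := by
    have h2 : d ∣ Nat.gcd 4 6 := Nat.dvd_gcd hd4 hd1
    have h3 : d ≤ 2 := Nat.le_of_dvd (by norm_num) h2
    have h4 : d ≠ 0 := by rintro rfl; simp at hd4
    omega
  rw [hd2'] at hcm
  have hC : Nat.card (centralizer ((P : Subgroup G) : Set G)) = 2 * 7 := by omega
  obtain ⟨t, ht2, htC, huniq, hNt⟩ := unique_involution_centralizer (by norm_num) P hP hC
  have ht1 : t ≠ 1 := by
    rintro rfl
    rw [orderOf_one] at ht2
    omega
  have hMtop : centralizer ({t} : Set G) ≠ ⊤ := centralizer_ne_top_of_simple hG ht1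
  -- C(t) = N(P)
  have hCt : centralizer ({t} : Set G) = normalizer ((P : Subgroup G) : Set G) := by
    symm
    apply Subgroup.eq_of_le_of_card_ge hNt
    have hdvd : (centralizer ({t} : Set G)).index ∣ 15 := by
      rw [← hidxN]; exact Subgroup.index_dvd_of_le hNt
    have hi1 : (centralizer ({t} : Set G)).index ≠ 1 := fun h => hMtop (Subgroup.index_eq_one.mp h)
    have hi5 : ¬ (centralizer ({t} : Set G)).index ≤ 5 := by
      intro hle
      have := two_mul_card_dvd_factorial_of_index_le hG _ hMtop hle
      rw [h] at this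
      norm_num [Nat.factorial] at this
    have hi15 : (centralizer ({t} : Set G)).index = 15 := by
      have hle : (centralizer ({t} : Set G)).index ≤ 15 := Nat.le_of_dvd (by norm_num) hdvd
      generalize (centralizer ({t} : Set G)).index = i at hdvd hi1 hi5 hle
      interval_cases i <;> simp_all
    have := Subgroup.card_mul_index (centralizer ({t} : Set G))
    rw [hi15, h] at this
    rw [hN]; omega
  obtain ⟨F, m, hm, hF1, -, hF2, hF3⟩ :=
    parity_count' (by rw [h]; norm_num) P hP t ht2 htC huniq hCt hNtop
  rw [hC] at hF2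
  rw [hidxN] at hF3
  unfold Nat.ModEq at hF1
  omega

end Cfsg.Agent.Helper39.SimpOrd
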