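import Cfsg.Agent.Helper39.SimpOrd.HandF
import Cfsg.Agent.Helper70.PCount7

set_option autoImplicit false
set_option linter.style.haveILetI false

namespace Cfsg.Agent.Helper39.SimpOrd

open Subgroup Cfsg.Agent Cfsg.Agent.Helper9 Cfsg.Agent.Helper17

variable {G : Type*} [Group G] [Finite G] [IsSimpleGroup G]

/-- A simple group of order 1080 has a subgroup of index 10. -/
theorem exists_index_ten_1080 (h : Nat.card G = 1080) : ∃ H : Subgroup G, H.index = 10 := by
  have hG : ¬ IsMulCommutative G := not_comm_of_simple_of_not_prime (by rw [h]; norm_num)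
  haveI : Fact (Nat.Prime 3) := ⟨by norm_num⟩
  have hcard : Nat.card G = 3 ^ 3 * 40 := by rw [h]; norm_num
  have hmem := card_sylow_mem_npList hG 3 3 40 (by norm_num) hcard (by norm_num) (by norm_num)
    (by norm_num)
  have hL : npList 3 3 40 = [10, 40] := by decide +kernel
  rw [hL] at hmem
  simp only [List.mem_cons, List.mem_nil_iff, or_false] at hmem
  rcases hmem with h10 | h40
  · obtain ⟨Q⟩ : Nonempty (Sylow 3 G) := inferInstance
    exact ⟨normalizer ((Q : Subgroup G) : Set G), by rw [← h10]; exact (Q.card_eq_index_normalizer).symm⟩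
  · obtain ⟨D, j, hNne, hj, -, hidx⟩ := exists_normalizer_of_sylow_inter 3 3 40 (by norm_num) hcard
      (by norm_num) (by norm_num) (by rw [h40]; decide)
    refine ⟨normalizer (D : Set G), ?_⟩
    have hi9 : 9 ≤ (normalizer (D : Set G)).index := by
      by_contra hlt
      push Not at hlt
      have := two_mul_card_dvd_factorial_of_index_le hG _ hNne (k := 8) (by omega)
      rw [h] at this
      norm_num [Nat.factorial] at this
    generalize (normalizer (D : Set G)).index = i at hidx hi9
    have hi10 : i ≤ 10 := by nlinarith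
    interval_cases i <;> omega

/-- Order 1080: commuting elements of orders 3 and 5 acting on the 10 cosets of a subgroup of
order 108. -/
theorem no_simple_1080 (h : Nat.card G = 1080) : False := by
  classical
  have hG : ¬ IsMulCommutative G := not_comm_of_simple_of_not_prime (by rw [h]; norm_num)
  haveI : Fact (Nat.Prime 5) := ⟨by norm_num⟩
  haveI : Fact (Nat.Prime 3) := ⟨by norm_num⟩
  obtain ⟨H, hH⟩ := exists_index_ten_1080 h
  have hHcard : Nat.card H = 108 := by
    have := Subgroup.card_mul_index H
    rw [hH, h] at this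
    omega
  have hHtop : H ≠ ⊤ := by
    intro ht
    rw [ht, Subgroup.index_top] at hH
    omega
  -- the 5-local structure
  have hcard : Nat.card G = 5 ^ 1 * 216 := by rw [h]; norm_num
  obtain ⟨P⟩ : Nonempty (Sylow 5 G) := inferInstance
  have hP : Nat.card (P : Subgroup G) = 5 := by
    simpa using card_sylow_subgroup_of_card_eq hcard (by norm_num) P
  have hmem := card_sylow_mem_npList hG 5 1 216 (by norm_num) hcard (by norm_num) (by norm_num)
    (by norm_num)
  have hL : npList 5 1 216 = [36] := by decide +kernel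
  rw [hL, List.mem_singleton] at hmem
  have hN : Nat.card (normalizer ((P : Subgroup G) : Set G)) = 30 :=
    card_normalizer_of_card_sylow P h hmem (by norm_num) (by norm_num)
  obtain ⟨hd1, hd2⟩ := relIndex_dvd_of_card_sylow_prime P hP
  have hcm := card_centralizer_mul_relIndex (P : Subgroup G)
  have hne : ¬ (normalizer ((P : Subgroup G) : Set G) ≤ centralizer ((P : Subgroup G) : Set G)) :=
    not_normalizer_le_centralizer_of_simple P (by rw [hP]; norm_num) (by rw [hP, h]; norm_num)
  have h1' : (centralizer ((P : Subgroup G) : Set G)).relIndex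
    (normalizer ((P : Subgroup G) : Set G)) ≠ 1 := fun h => hne (Subgroup.relIndex_eq_one.mp h)
  generalize hdd : (centralizer ((P : Subgroup G) : Set G)).relIndex
    (normalizer ((P : Subgroup G) : Set G)) = d at hd1 hd2 hcm h1'
  rw [hN] at hd2 hcm
  have hd6 : d ∣ 6 := by
    have : 5 * d ∣ 5 * 6 := hd2
    exact (Nat.mul_dvd_mul_iff_left (by norm_num)).mp this
  have hd2' : d = 2 := by
    have h2 : d ∣ Nat.gcd 6 4 := Nat.dvd_gcd hd6 hd1
    have h3 : d ≤ 2 := Nat.le_of_dvd (by norm_num) h2
    have h4 : d ≠ 0 := by rintro rfl; simp at hd6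
    omega
  rw [hd2'] at hcm
  have hC : Nat.card (centralizer ((P : Subgroup G) : Set G)) = 15 := by omega
  -- an element of order 3 centralizing P
  obtain ⟨w', hw'⟩ := exists_prime_orderOf_dvd_card' (G := ↥(centralizer ((P : Subgroup G) : Set G)))
    3 (by rw [hC]; norm_num)
  obtain ⟨w, hwdef⟩ : ∃ w : G, w = (w' : G) := ⟨_, rfl⟩
  have hw3 : orderOf w = 3 := by rw [hwdef, Subgroup.orderOf_coe, hw']
  have hwC : w ∈ centralizer ((P : Subgroup G) : Set G) := by rw [hwdef]; exact w'.2
  -- a generator of P
  have hPnt : Nontrivial (P : Subgroup G) := by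
    rw [← Finite.one_lt_card_iff_nontrivial, hP]; norm_num
  obtain ⟨⟨y, hyP⟩, hy1⟩ := exists_ne (1 : (P : Subgroup G))
  have hy1' : y ≠ 1 := fun h => hy1 (Subtype.ext h)
  have hy5 : orderOf y = 5 := by
    have h1 : orderOf y ∣ 5 := by
      have := orderOf_dvd_natCard (⟨y, hyP⟩ : (P : Subgroup G))
      rwa [hP, Subgroup.orderOf_mk] at this
    rcases (Nat.dvd_prime (by norm_num : Nat.Prime 5)).mp h1 with h2 | h2
    · exact absurd (orderOf_eq_one_iff.mp h2) hy1'
    · exact h2
  have hyw : y * w = w * y := hwC y hyP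
  -- the action on the ten cosets
  letI : Fintype (G ⧸ H) := Fintype.ofFinite _
  have hcardΩ : Fintype.card (G ⧸ H) = 10 := by
    rw [← Nat.card_eq_fintype_card]; exact hH
  set T : Finset (G ⧸ H) := Finset.univ.filter (fun x => w • x = x) with hTdef
  have hmemT : ∀ x : G ⧸ H, x ∈ T ↔ w • x = x := by
    intro x; rw [hTdef, Finset.mem_filter]; simp
  have hYp : IsPGroup 5 ↥(zpowers y) := by
    apply IsPGroup.of_card (n := 1)
    rw [Nat.card_zpowers, hy5, pow_one]
  have hWp : IsPGroup 3 ↥(zpowers w) := by
    apply IsPGroup.of_card (n := 1)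
    rw [Nat.card_zpowers, hw3, pow_one]
  -- T is invariant under powers of y
  have hcommpow : ∀ g ∈ zpowers y, g * w = w * g := by
    intro g hg
    obtain ⟨k, rfl⟩ := Subgroup.mem_zpowers_iff.mp hg
    exact ((Commute.zpow_left (show Commute y w from hyw)) k).eq
  have hinvY : ∀ g : ↥(zpowers y), ∀ x ∈ T, g • x ∈ T := by
    intro g x hx
    rw [hmemT] at hx ⊢
    change w • ((g : G) • x) = (g : G) • x
    rw [← mul_smul, ← hcommpow g g.2, mul_smul, hx]
  have h5 := Helper70.PCount.card_modEq_card_fixed (p := 5) hYp T hinvY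
  have hempty : T.filter (fun t => ∀ g : ↥(zpowers y), g • t = t) = ∅ := by
    rw [Finset.filter_eq_empty_iff]
    intro x _ hx
    have hyx : y • x = x := hx ⟨y, Subgroup.mem_zpowers y⟩
    induction x using QuotientGroup.induction_on with
    | H g =>
      rw [MulAction.Quotient.smul_mk, QuotientGroup.eq, smul_eq_mul] at hyx
      have hord : orderOf ((y * g)⁻¹ * g) = 5 := by
        have e : (y * g)⁻¹ * g = (MulAut.conj g⁻¹) y⁻¹ := by
          simp [MulAut.conj_apply, mul_assoc]
        rw [e, MulEquiv.orderOf_eq, orderOf_inv, hy5]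
      have := orderOf_dvd_natCard (⟨_, hyx⟩ : H)
      rw [Subgroup.orderOf_mk, hord, hHcard] at this
      norm_num at this
  rw [hempty, Finset.card_empty] at h5
  have h3 := Helper70.PCount.card_modEq_card_fixed (p := 3) hWp (Finset.univ : Finset (G ⧸ H))
    (fun _ _ _ => Finset.mem_univ _)
  have hT : (Finset.univ : Finset (G ⧸ H)).filter (fun t => ∀ g : ↥(zpowers w), g • t = t) = T := by
    ext x
    rw [Finset.mem_filter, hmemT]
    constructor
    · rintro ⟨-, hx⟩
      exact hx ⟨w, Subgroup.mem_zpowers w⟩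
    · intro hx
      refine ⟨Finset.mem_univ _, ?_⟩
      rintro ⟨g, hg⟩
      obtain ⟨k, rfl⟩ := Subgroup.mem_zpowers_iff.mp hg
      change w ^ k • x = x
      have hstab : w ∈ MulAction.stabilizer G x := hx
      exact zpow_mem hstab k
  rw [hT, Finset.card_univ, hcardΩ] at h3
  have hTle : T.card ≤ 10 := by
    rw [← hcardΩ]; exact Finset.card_le_univ _
  have hT10 : T.card = 10 := by
    unfold Nat.ModEq at h5 h3
    omega
  -- so `w` acts trivially
  have hTuniv : T = Finset.univ := by
    rw [← Finset.card_eq_iff_eq_univ, hT10, hcardΩ]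
  have hker : w ∈ (MulAction.toPermHom G (G ⧸ H)).ker := by
    rw [MonoidHom.mem_ker]
    ext x
    have : x ∈ T := by rw [hTuniv]; exact Finset.mem_univ x
    simpa using (hmemT x).mp this
  rw [← Subgroup.normalCore_eq_ker] at hker
  rcases (Subgroup.normalCore_normal H).eq_bot_or_eq_top with hb | ht
  · rw [hb, Subgroup.mem_bot] at hker
    rw [hker, orderOf_one] at hw3
    omega
  · apply hHtop
    rw [eq_top_iff, ← ht]
    exact Subgroup.normalCore_le H

end Cfsg.Agent.Helper39.SimpOrd
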