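import Cfsg.Agent.Helper39.SimpOrd.TwoLocalC

set_option autoImplicit false
set_option linter.style.haveILetI false

namespace Cfsg.Agent.Helper39.SimpOrd

open Subgroup Cfsg.Agent Cfsg.Agent.Helper17

variable {G : Type*} [Group G] [Finite G]

/-- **2-local contradiction via Thompson transfer.**  In a non-abelian simple group with Sylow
`2`-subgroups of order 16 there are no two distinct commuting involutions `t, r` with
`gcd(16, |C(t)|) = 4`. -/
theorem thompson_kill [IsSimpleGroup G]
    (hS : ∀ S : Sylow 2 G, Nat.card (S : Subgroup G) = 16)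
    (t r : G) (ht : orderOf t = 2) (hr : orderOf r = 2) (hne : r ≠ t) (hcomm : t * r = r * t)
    (c : ℕ) (hC : Nat.card (centralizer ({t} : Set G)) = c) (hgcd : Nat.gcd 16 c = 4) :
    False := by
  haveI : Fact (Nat.Prime 2) := ⟨Nat.prime_two⟩
  have htt : t * t = 1 := by
    have := pow_orderOf_eq_one t
    rwa [ht, pow_two] at this
  -- a Sylow 2-subgroup containing t and r
  obtain ⟨S, hVS⟩ := (isPGroup_sup_zpowers ht hr hcomm).exists_le_sylow
  have htS : t ∈ (S : Subgroup G) := hVS (Subgroup.mem_sup_left (Subgroup.mem_zpowers t))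
  have hrS : r ∈ (S : Subgroup G) := hVS (Subgroup.mem_sup_right (Subgroup.mem_zpowers r))
  have hS16 := hS S
  have hKt := card_inf_centralizer_dvd S hS16 t c hC hgcd
  have hKconj := card_inf_centralizer_conj_dvd S hS16 t c hC hgcd
  have htKt : t ∈ ((S : Subgroup G) ⊓ centralizer ({t} : Set G) : Subgroup G) :=
    ⟨htS, Subgroup.mem_centralizer_singleton_iff.mpr rfl⟩
  have hrKt : r ∈ ((S : Subgroup G) ⊓ centralizer ({t} : Set G) : Subgroup G) :=
    ⟨hrS, Subgroup.mem_centralizer_singleton_iff.mpr hcomm.symm⟩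
  -- a central involution of S
  haveI : Nontrivial ↥(S : Subgroup G) := by
    rw [← Finite.one_lt_card_iff_nontrivial, hS16]; norm_num
  haveI := IsPGroup.center_nontrivial S.2
  obtain ⟨⟨z', hz'c⟩, hz'1⟩ := exists_ne (1 : Subgroup.center ↥(S : Subgroup G))
  obtain ⟨z, hzdef⟩ : ∃ z : G, z = (z' : G) := ⟨_, rfl⟩
  have hzS : z ∈ (S : Subgroup G) := by rw [hzdef]; exact z'.2
  have hz1 : z ≠ 1 := by
    intro h
    apply hz'1
    apply Subtype.ext
    apply Subtype.ext
    rw [← hzdef, h]; rfl
  have hzc : ∀ s ∈ (S : Subgroup G), s * z = z * s := by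
    intro s hs
    have := (Subgroup.mem_center_iff.mp hz'c) ⟨s, hs⟩
    rw [hzdef]
    exact congrArg Subtype.val this
  have hzKt : z ∈ ((S : Subgroup G) ⊓ centralizer ({t} : Set G) : Subgroup G) :=
    ⟨hzS, Subgroup.mem_centralizer_singleton_iff.mpr (hzc t htS).symm⟩
  have hzsq : z ^ 2 = 1 := sq_eq_one_of_card_dvd_four' _ hKt htKt hrKt hne.symm ht hr hzKt
  have hzz : z * z = 1 := by rwa [pow_two] at hzsq
  have hz2 : orderOf z = 2 := orderOf_eq_prime hzsq hz1
  -- a conjugate of t lying in S is never central in S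
  have hnotcentral : ∀ g : G, g * t * g⁻¹ ∈ (S : Subgroup G) → g * t * g⁻¹ ≠ z := by
    intro g _ hgz
    have h4 := hKconj g
    rw [hgz] at h4
    have : (S : Subgroup G) ⊓ centralizer ({z} : Set G) = (S : Subgroup G) := by
      rw [inf_eq_left]
      intro s hs
      exact Subgroup.mem_centralizer_singleton_iff.mpr (hzc s hs)
    rw [this, hS16] at h4
    norm_num at h4
  -- an element whose square is neither 1 nor z
  obtain ⟨x, hxS, hx1, hxz⟩ : ∃ x ∈ (S : Subgroup G), x * x ≠ 1 ∧ x * x ≠ z := by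
    by_contra hcon
    push Not at hcon
    have hsq : ∀ g ∈ (S : Subgroup G), g * g = 1 ∨ g * g = z := by
      intro g hg
      by_cases h : g * g = 1
      · exact Or.inl h
      · exact Or.inr (hcon g hg h)
    have hle := card_le_of_forall_sq (S : Subgroup G) t z htS htt hzz hz1 hzc hsq
    have h4 := Nat.le_of_dvd (by norm_num) hKt
    rw [hS16] at hle
    omega
  have hxsq : x ^ 2 ≠ 1 := by rwa [pow_two]
  -- the maximal subgroup M = C_S(x)
  set M : Subgroup G := (S : Subgroup G) ⊓ centralizer ({x} : Set G) with hM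
  have hMS : M ≤ (S : Subgroup G) := inf_le_left
  have hxM : x ∈ M := ⟨hxS, Subgroup.mem_centralizer_singleton_iff.mpr rfl⟩
  have hzM : z ∈ M := ⟨hzS, Subgroup.mem_centralizer_singleton_iff.mpr (hzc x hxS).symm⟩
  have hMne : M ≠ (S : Subgroup G) := by
    intro h
    have htM : t ∈ M := by rw [h]; exact htS
    have htx : t * x = x * t := Subgroup.mem_centralizer_singleton_iff.mp htM.2
    have hxKt : x ∈ ((S : Subgroup G) ⊓ centralizer ({t} : Set G) : Subgroup G) :=
      ⟨hxS, Subgroup.mem_centralizer_singleton_iff.mpr htx.symm⟩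
    exact hxsq (sq_eq_one_of_card_dvd_four' _ hKt htKt hrKt hne.symm ht hr hxKt)
  have hMdvd : Nat.card M ∣ 16 := hS16 ▸ Subgroup.card_dvd_of_le hMS
  have hMne16 : Nat.card M ≠ 16 := by
    intro h
    exact hMne (Subgroup.eq_of_le_of_card_ge hMS (by rw [h, hS16]))
  have hM4 : 4 < Nat.card M := by
    have hzp : zpowers x ≤ M := Subgroup.zpowers_le.mpr hxM
    have hle := Subgroup.card_le_of_le hzp
    rw [Nat.card_zpowers] at hle
    have hodvd : orderOf x ∣ 16 := by
      have := orderOf_dvd_natCard (⟨x, hxS⟩ : ↥(S : Subgroup G))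
      rwa [Subgroup.orderOf_mk, hS16] at this
    have ho1 : orderOf x ≠ 1 := by
      intro h
      apply hxsq
      rw [orderOf_eq_one_iff.mp h]; simp
    have ho2 : orderOf x ≠ 2 := by
      intro h
      apply hxsq
      rw [← h]; exact pow_orderOf_eq_one x
    by_contra hM4
    push Not at hM4
    have ho4 : orderOf x = 4 := by
      have hole : orderOf x ≤ 4 := le_trans hle hM4
      have hopos : 0 < orderOf x := orderOf_pos x
      generalize orderOf x = o at hodvd ho1 ho2 hole hopos
      interval_cases o <;> simp_all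
    -- then M = ⟨x⟩ is cyclic of order 4 with two involutions z and x²
    have hMeq : zpowers x = M := by
      apply Subgroup.eq_of_le_of_card_ge hzp
      rw [Nat.card_zpowers, ho4]; exact hM4
    have hzin : z ∈ zpowers x := by rw [hMeq]; exact hzM
    have hx2in : x ^ 2 ∈ zpowers x := Subgroup.pow_mem _ (Subgroup.mem_zpowers x) 2
    have hx2o : orderOf (x ^ 2) = 2 := by
      apply orderOf_eq_prime
      · rw [← pow_mul]; norm_num; rw [← ho4]; exact pow_orderOf_eq_one x
      · exact hxsq
    have heq := eq_of_orderOf_two_of_isCyclic (K := ↥(zpowers x))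
      (a := ⟨z, hzin⟩) (b := ⟨x ^ 2, hx2in⟩)
      (by rw [Subgroup.orderOf_mk, hz2]) (by rw [Subgroup.orderOf_mk, hx2o])
    have : z = x ^ 2 := congrArg Subtype.val heq
    apply hxz
    rw [← pow_two, this]
  have hM8 : Nat.card M = 8 := by
    have hle : Nat.card M ≤ 16 := Nat.le_of_dvd (by norm_num) hMdvd
    generalize Nat.card M = n at hMdvd hMne16 hM4 hle
    interval_cases n <;> simp_all
  have hrel : M.relIndex (S : Subgroup G) = 2 := by
    have h1 := Subgroup.card_mul_index (M.subgroupOf (S : Subgroup G))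
    have h2 : Nat.card (M.subgroupOf (S : Subgroup G)) = 8 := by
      rw [Nat.card_congr (subgroupOfEquivOfLe hMS).toEquiv, hM8]
    rw [h2, hS16] at h1
    unfold Subgroup.relIndex
    omega
  -- no conjugate of t lies in M
  have hcon : ∀ g : G, g * t * g⁻¹ ∉ M := by
    intro g hgM
    have hcS : g * t * g⁻¹ ∈ (S : Subgroup G) := hMS hgM
    have hcx : g * t * g⁻¹ * x = x * (g * t * g⁻¹) :=
      Subgroup.mem_centralizer_singleton_iff.mp hgM.2
    have hco : orderOf (g * t * g⁻¹) = 2 := by
      have := (MulAut.conj g).orderOf_eq t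
      rw [MulAut.conj_apply] at this
      rw [this, ht]
    have h4 := hKconj g
    have hcK : g * t * g⁻¹ ∈
        ((S : Subgroup G) ⊓ centralizer ({g * t * g⁻¹} : Set G) : Subgroup G) :=
      ⟨hcS, Subgroup.mem_centralizer_singleton_iff.mpr rfl⟩
    have hzK : z ∈ ((S : Subgroup G) ⊓ centralizer ({g * t * g⁻¹} : Set G) : Subgroup G) :=
      ⟨hzS, Subgroup.mem_centralizer_singleton_iff.mpr (hzc _ hcS).symm⟩
    have hxK : x ∈ ((S : Subgroup G) ⊓ centralizer ({g * t * g⁻¹} : Set G) : Subgroup G) :=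
      ⟨hxS, Subgroup.mem_centralizer_singleton_iff.mpr hcx.symm⟩
    exact hxsq (sq_eq_one_of_card_dvd_four' _ h4 hcK hzK (hnotcentral g hcS) hco hz2 hxK)
  -- Thompson transfer
  obtain ⟨H, hH2, -⟩ := Helper53.thompson_transfer S M hrel t htS ht hcon
  haveI : H.Normal := Subgroup.normal_of_index_eq_two hH2
  rcases (inferInstance : H.Normal).eq_bot_or_eq_top with hb | htop
  · rw [hb, Subgroup.index_bot] at hH2
    have := (hS S) ▸ Subgroup.card_dvd_of_le (le_top : (S : Subgroup G) ≤ ⊤)
    rw [Subgroup.card_top, hH2] at this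
    norm_num at this
  · rw [htop, Subgroup.index_top] at hH2
    omega

end Cfsg.Agent.Helper39.SimpOrd
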