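import Cfsg.Agent.Helper39.SimpOrd.KitC
import Cfsg.Agent.Helper39.SimpOrd.TwoLocalD

set_option autoImplicit false
set_option linter.style.haveILetI false

namespace Cfsg.Agent.Helper39.SimpOrd

open Subgroup Cfsg.Agent Cfsg.Agent.Helper9 Cfsg.Agent.Helper17

variable {G : Type*} [Group G] [Finite G] [IsSimpleGroup G]

theorem key1008 : ∀ k, k ∣ 36 → k % 7 = 1 → k = 1 ∨ k = 36 := by
  intro k hk hmod
  have hle : k ≤ 36 := Nat.le_of_dvd (by norm_num) hk
  interval_cases k <;> simp_all

/-- Order 1008: `n_7 = 36`, the involution `t` of `C(P_7)` has `C(t) = N(P_7)` of order 28 and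
fixes 8 of the 36 Sylow 7-subgroups, so `N(P_7)` contains a second conjugate of `t`; then the
Thompson transfer lemma gives a subgroup of index 2. -/
theorem no_simple_1008 (h : Nat.card G = 1008) : False := by
  have hG : ¬ IsMulCommutative G := not_comm_of_simple_of_not_prime (by rw [h]; norm_num)
  haveI : Fact (Nat.Prime 7) := ⟨by norm_num⟩
  haveI : Fact (Nat.Prime 2) := ⟨by norm_num⟩
  have hcard : Nat.card G = 7 ^ 1 * 144 := by rw [h]; norm_num
  obtain ⟨P⟩ : Nonempty (Sylow 7 G) := inferInstance
  have hP : Nat.card (P : Subgroup G) = 7 := by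
    simpa using card_sylow_subgroup_of_card_eq hcard (by norm_num) P
  have hmem := card_sylow_mem_npList hG 7 1 144 (by norm_num) hcard (by norm_num) (by norm_num)
    (by norm_num)
  have hL : npList 7 1 144 = [8, 36] := by decide +kernel
  rw [hL] at hmem
  simp only [List.mem_cons, List.mem_nil_iff, or_false] at hmem
  rcases hmem with h8 | h36
  · exact kill_succ hG P h (by norm_num) h8 (N := 126) (by norm_num) (by norm_num)
  have hN : Nat.card (normalizer ((P : Subgroup G) : Set G)) = 28 :=
    card_normalizer_of_card_sylow P h h36 (by norm_num) (by norm_num)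
  have hidxN : (normalizer ((P : Subgroup G) : Set G)).index = 36 := by
    rw [← h36]; exact (P.card_eq_index_normalizer).symm
  have hNtop : normalizer ((P : Subgroup G) : Set G) ≠ ⊤ :=
    normalizer_sylow_ne_top P (by rw [h36]; norm_num)
  obtain ⟨hd1, hd2⟩ := relIndex_dvd_of_card_sylow_prime P hP
  have hcm := card_centralizer_mul_relIndex (P : Subgroup G)
  have hne : ¬ (normalizer ((P : Subgroup G) : Set G) ≤ centralizer ((P : Subgroup G) : Set G)) :=
    not_normalizer_le_centralizer_of_simple P (by rw [hP]; norm_num) (by rw [hP, h]; norm_num)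
  have h1' : (centralizer ((P : Subgroup G) : Set G)).relIndex
    (normalizer ((P : Subgroup G) : Set G)) ≠ 1 := fun h => hne (Subgroup.relIndex_eq_one.mp h)
  generalize hdd : (centralizer ((P : Subgroup G) : Set G)).relIndex
    (normalizer ((P : Subgroup G) : Set G)) = d at hd1 hd2 hcm h1'
  rw [hN] at hd2 hcm
  have hd4 : d ∣ 4 := by
    have : 7 * d ∣ 7 * 4 := hd2
    exact (Nat.mul_dvd_mul_iff_left (by norm_num)).mp this
  have hd2' : d = 2 := by
    have h2 : d ∣ Nat.gcd 4 6 := Nat.dvd_gcd hd4 hd1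
    have h3 : d ≤ 2 := Nat.le_of_dvd (by norm_num) h2
    have h4 : d ≠ 0 := by rintro rfl; simp at hd4
    omega
  rw [hd2'] at hcm
  have hC : Nat.card (centralizer ((P : Subgroup G) : Set G)) = 2 * 7 := by omega
  obtain ⟨t, ht2, htC, huniq, hNt⟩ := unique_involution_centralizer (by norm_num) P hP hC
  have ht1 : t ≠ 1 := by
    rintro rfl
    rw [orderOf_one] at ht2
    omega
  have hMtop : centralizer ({t} : Set G) ≠ ⊤ := centralizer_ne_top_of_simple hG ht1
  have hCt : centralizer ({t} : Set G) = normalizer ((P : Subgroup G) : Set G) :=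
    eq_normalizer_of_le' P _ hNt hMtop 36 h36 key1008
  obtain ⟨F, m, hm, hF1, hFeq, hF2, hF3⟩ :=
    parity_count' (by rw [h]; norm_num) P hP t ht2 htC huniq hCt hNtop
  rw [hC] at hF2
  rw [hidxN] at hF3
  have hF8 : F = 8 := by
    unfold Nat.ModEq at hF1
    omega
  -- a second conjugate of t in N(P)
  have hnt : Nontrivial {g : G // IsConj t g ∧ g ∈ normalizer ((P : Subgroup G) : Set G)} := by
    rw [← Finite.one_lt_card_iff_nontrivial, ← hFeq, hF8]; norm_num
  obtain ⟨a, b, hab⟩ := exists_pair_ne {g : G // IsConj t g ∧ g ∈ normalizer ((P : Subgroup G) : Set G)}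
  obtain ⟨r, hrconj, hrN, hrt⟩ : ∃ r : G, IsConj t r ∧
      r ∈ normalizer ((P : Subgroup G) : Set G) ∧ r ≠ t := by
    by_cases hat : (a : G) = t
    · refine ⟨b, b.2.1, b.2.2, fun hbt => hab ?_⟩
      apply Subtype.ext
      rw [hat, hbt]
    · exact ⟨a, a.2.1, a.2.2, hat⟩
  have hr2 : orderOf r = 2 := by
    obtain ⟨g, hg⟩ := isConj_iff.mp hrconj
    rw [← hg]
    have := (MulAut.conj g).orderOf_eq t
    rw [MulAut.conj_apply] at this
    rw [this, ht2]
  have hcomm : t * r = r * t := by
    have : r ∈ centralizer ({t} : Set G) := by rw [hCt]; exact hrN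
    exact (Subgroup.mem_centralizer_singleton_iff.mp this).symm
  have hS : ∀ S : Sylow 2 G, Nat.card (S : Subgroup G) = 16 := fun S => by
    have := card_sylow_subgroup_of_card_eq (p := 2) (k := 4) (m := 63) (by rw [h]; norm_num)
      (by norm_num) S
    simpa using this
  exact thompson_kill hS t r ht2 hr2 hrt hcomm 28 (by rw [hCt, hN]) (by norm_num)

end Cfsg.Agent.Helper39.SimpOrd
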