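import Cfsg.Agent.Helper39.SimpOrd.H720A
import Cfsg.Agent.Helper20.Ord720

set_option autoImplicit false
set_option linter.style.haveILetI false

namespace Cfsg.Agent.Helper39.SimpOrd

open Subgroup Cfsg.Agent.Helper9 Cfsg.Agent.Helper17

variable {G : Type*} [Group G] [Finite G] [IsSimpleGroup G]

/-- Order 720: `n_5 = 36`, `|N(P_5)| = 20`; `|C(P_5)| = 10` dies by the parity count
(`case10_720`), `|C(P_5)| = 5` (the `M_10` shadow) by characters (`Helper20.Ord720.caseF20`). -/
theorem no_simple_720 (h : Nat.card G = 720) : False := by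
  have hG : ¬ IsMulCommutative G := not_comm_of_simple_of_not_prime (by rw [h]; norm_num)
  haveI : Fact (Nat.Prime 5) := ⟨by norm_num⟩
  have hcard : Nat.card G = 5 ^ 1 * 144 := by rw [h]; norm_num
  obtain ⟨P⟩ : Nonempty (Sylow 5 G) := inferInstance
  have hP : Nat.card (P : Subgroup G) = 5 := by
    simpa using card_sylow_subgroup_of_card_eq hcard (by norm_num) P
  have hmem := card_sylow_mem_npList hG 5 1 144 (by norm_num) hcard (by norm_num) (by norm_num)
    (by norm_num)
  have hL : npList 5 1 144 = [36] := by decide +kernel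
  rw [hL, List.mem_singleton] at hmem
  have hN : Nat.card (normalizer ((P : Subgroup G) : Set G)) = 20 :=
    card_normalizer_of_card_sylow P h hmem (by norm_num) (by norm_num)
  obtain ⟨hd1, hd2⟩ := relIndex_dvd_of_card_sylow_prime P hP
  have hcm := card_centralizer_mul_relIndex (P : Subgroup G)
  have hne : ¬ (normalizer ((P : Subgroup G) : Set G) ≤ centralizer ((P : Subgroup G) : Set G)) :=
    not_normalizer_le_centralizer_of_simple P (by rw [hP]; norm_num) (by rw [hP, h]; norm_num)
  have h1' : (centralizer ((P : Subgroup G) : Set G)).relIndex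
    (normalizer ((P : Subgroup G) : Set G)) ≠ 1 := fun h => hne (Subgroup.relIndex_eq_one.mp h)
  generalize hdd : (centralizer ((P : Subgroup G) : Set G)).relIndex
    (normalizer ((P : Subgroup G) : Set G)) = d at hd1 hd2 hcm h1'
  rw [hN] at hd2 hcm
  have hd4 : d ∣ 4 := by
    have : 5 * d ∣ 5 * 4 := hd2
    exact (Nat.mul_dvd_mul_iff_left (by norm_num)).mp this
  have hdle : d ≤ 4 := Nat.le_of_dvd (by norm_num) hd4
  have hd0 : d ≠ 0 := by rintro rfl; simp at hd4
  have hd3 : d ≠ 3 := by rintro rfl; norm_num at hd4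
  have hcases : d = 2 ∨ d = 4 := by omega
  rcases hcases with rfl | rfl
  · have hC : Nat.card (centralizer ((P : Subgroup G) : Set G)) = 2 * 5 := by omega
    exact case10_720 h P hP hmem hN hC
  · have hC : Nat.card (centralizer ((P : Subgroup G) : Set G)) = 5 := by omega
    exact Cfsg.Agent.Helper20.Ord720.caseF20 h P hP hN hC

end Cfsg.Agent.Helper39.SimpOrd
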