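import Cfsg.Agent.Helper39.SimpOrd.HandA
import Cfsg.Agent.Helper39.SimpOrd.HandB
import Cfsg.Agent.Helper39.SimpOrd.HandC
import Cfsg.Agent.Helper39.SimpOrd.HandD
import Cfsg.Agent.Helper39.SimpOrd.HandE
import Cfsg.Agent.Helper39.SimpOrd.HandG
import Cfsg.Agent.Helper39.SimpOrd.HandH
import Cfsg.Agent.Helper39.SimpOrd.HandI
import Cfsg.Agent.Helper39.SimpOrd.HandJ
import Cfsg.Agent.Helper39.SimpOrd.HandK

/-!
The twenty orders `≤ 1092` that survive the Sylow sieve, `p^a q^b` and S0499, each killed by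
hand: `no_simple_N` for `N` in 120, 180, 264, 336, 420, 480, 528, 560, 612, 672, 720, 756, 792,
840, 900, 960, 1008, 1040, 1056, 1080.  This file only gathers the imports.
-/
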