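import Cfsg.Agent.Helper39.SimpOrd.Kit
import Cfsg.Agent.Helper17.SylowInter

set_option autoImplicit false

namespace Cfsg.Agent.Helper39.SimpOrd

open Subgroup Cfsg.Agent.Helper9 Cfsg.Agent.Helper17

variable {G : Type*} [Group G] [Finite G] [IsSimpleGroup G]

omit [Finite G] [IsSimpleGroup G] in
theorem le_normalizer_inf_of_index_prime {p k : ℕ} (hp : p.Prime) (hk : k ≠ 0) {P R : Subgroup G}
    (hP : Nat.card P = p ^ k) (h : (R.subgroupOf P).index = p) :
    P ≤ normalizer ((P ⊓ R : Subgroup G) : Set G) := by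
  haveI : ((P ⊓ R).subgroupOf P).Normal := by
    rw [inf_subgroupOf_left]
    apply Subgroup.normal_of_index_eq_minFac_card
    rw [h, hP, hp.pow_minFac hk]
  exact Subgroup.le_normalizer_of_normal_subgroupOf inf_le_left

/-- If `n_p ≢ 1 mod p²`, two Sylow `p`-subgroups meet in a subgroup `D` of index `p`, and
`N(D)` is a proper subgroup of order `p ^ k * j` with `j ≥ p + 1`. -/
theorem exists_normalizer_of_sylow_inter (p k m : ℕ) (hp : p.Prime)
    (hcard : Nat.card G = p ^ k * m) (hm : ¬ p ∣ m) (hk : 2 ≤ k)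
    (hnmod : ¬ Nat.card (Sylow p G) ≡ 1 [MOD p ^ 2]) :
    ∃ (D : Subgroup G) (j : ℕ), normalizer (D : Set G) ≠ ⊤ ∧ p + 1 ≤ j ∧
      Nat.card (normalizer (D : Set G)) = p ^ k * j ∧ (normalizer (D : Set G)).index * j = m := by
  haveI : Fact p.Prime := ⟨hp⟩
  have hm0 : m ≠ 0 := fun h => hm (h ▸ dvd_zero p)
  have hp2 := hp.two_le
  obtain ⟨P, R, hPR, hidx⟩ := exists_sylow_pair_large_inter p 2 hnmod
  have hcardP : ∀ S : Sylow p G, Nat.card (S : Subgroup G) = p ^ k := fun S =>
    card_sylow_subgroup_of_card_eq hcard hm S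
  set D : Subgroup G := (P : Subgroup G) ⊓ (R : Subgroup G) with hD
  have h1 : ((R : Subgroup G).subgroupOf (P : Subgroup G)).index * Nat.card D = p ^ k := by
    rw [← hcardP P]; exact index_subgroupOf_mul_card_inf (P : Subgroup G) (R : Subgroup G)
  have h1' : ((P : Subgroup G).subgroupOf (R : Subgroup G)).index * Nat.card D = p ^ k := by
    rw [← hcardP R, hD, inf_comm]
    exact index_subgroupOf_mul_card_inf (R : Subgroup G) (P : Subgroup G)
  have h2 : ((R : Subgroup G).subgroupOf (P : Subgroup G)).index ≤ p := by simpa using hidx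
  have hne1 : ((R : Subgroup G).subgroupOf (P : Subgroup G)).index ≠ 1 := by
    intro h
    apply hPR
    have hle : (P : Subgroup G) ≤ (R : Subgroup G) := by
      have := Subgroup.index_eq_one.mp h
      rw [Subgroup.subgroupOf_eq_top] at this
      exact this
    have heq : (P : Subgroup G) = (R : Subgroup G) :=
      Subgroup.eq_of_le_of_card_ge hle (by rw [hcardP P, hcardP R])
    exact Sylow.ext heq
  have hip : ((R : Subgroup G).subgroupOf (P : Subgroup G)).index = p := by
    have hdvd : ((R : Subgroup G).subgroupOf (P : Subgroup G)).index ∣ p ^ k := ⟨_, h1.symm⟩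
    obtain ⟨j, hj, hje⟩ := (Nat.dvd_prime_pow hp).mp hdvd
    rcases Nat.lt_or_ge j 2 with hj2 | hj2
    · interval_cases j
      · rw [pow_zero] at hje; exact absurd hje hne1
      · rw [pow_one] at hje; exact hje
    · exfalso
      have : p ^ 2 ≤ p ^ j := Nat.pow_le_pow_right hp.pos hj2
      rw [hje] at h2
      nlinarith
  have hDcard : p * Nat.card D = p ^ k := by rw [← h1, hip]
  have hip' : ((P : Subgroup G).subgroupOf (R : Subgroup G)).index = p := by
    have hDpos : 0 < Nat.card D := Nat.card_pos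
    have : ((P : Subgroup G).subgroupOf (R : Subgroup G)).index * Nat.card D = p * Nat.card D := by
      rw [h1', hDcard]
    exact Nat.eq_of_mul_eq_mul_right hDpos this
  have hk0 : k ≠ 0 := by omega
  have hPN : (P : Subgroup G) ≤ normalizer (D : Set G) :=
    le_normalizer_inf_of_index_prime hp hk0 (hcardP P) hip
  have hRN : (R : Subgroup G) ≤ normalizer (D : Set G) := by
    rw [hD, inf_comm]; exact le_normalizer_inf_of_index_prime hp hk0 (hcardP R) hip'
  obtain ⟨n, m', hn1, -, hcardN⟩ := card_ge_of_two_sylow_le P R hPR hPN hRN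
  rw [hcardP P] at hcardN
  have hk' : p ^ k = p * p ^ (k - 1) := by
    rw [← pow_succ']; congr 1; omega
  have hDc : Nat.card D = p ^ (k - 1) := by
    have : p * Nat.card D = p * p ^ (k - 1) := by rw [hDcard, hk']
    exact Nat.eq_of_mul_eq_mul_left hp.pos this
  have hk1 : 2 ≤ p ^ (k - 1) := by
    calc 2 ≤ p := hp2
      _ = p ^ 1 := (pow_one p).symm
      _ ≤ p ^ (k - 1) := Nat.pow_le_pow_right hp.pos (by omega)
  have hNne : normalizer (D : Set G) ≠ ⊤ := by
    apply normalizer_ne_top_of_simple D
    · rw [hDc]; omega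
    · rw [hDc, hcard, hk']
      intro h
      have hpos : 0 < p ^ (k - 1) := by positivity
      have hmpos : 0 < m := Nat.pos_of_ne_zero hm0
      have : p ^ (k - 1) * 1 < p * p ^ (k - 1) * m := by
        calc p ^ (k - 1) * 1 < p ^ (k - 1) * (p * m) := by
              apply Nat.mul_lt_mul_of_pos_left _ hpos
              nlinarith
          _ = p * p ^ (k - 1) * m := by ring
      omega
  have hidxN := Subgroup.card_mul_index (normalizer (D : Set G))
  rw [hcardN, hcard] at hidxN
  have hm'0 : m' ≠ 0 := by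
    rintro rfl
    simp at hidxN
    have hpos : 0 < p ^ k := by positivity
    rcases hidxN with h | h
    · omega
    · exact hm0 h
  refine ⟨D, n * m', hNne, ?_, hcardN, ?_⟩
  · calc p + 1 = (p + 1) * 1 := (mul_one _).symm
      _ ≤ n * m' := Nat.mul_le_mul hn1 (Nat.pos_of_ne_zero hm'0)
  · have hpos : 0 < p ^ k := by positivity
    have : p ^ k * ((normalizer (D : Set G)).index * (n * m')) = p ^ k * m := by
      rw [← hidxN]; ring
    exact Nat.eq_of_mul_eq_mul_left hpos this

end Cfsg.Agent.Helper39.SimpOrd
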