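import Mathlib
import Cfsg.Agent.Helper9.Sieve
import Cfsg.Agent.S0144
import Cfsg.Agent.S0499

set_option autoImplicit false

namespace Cfsg.Agent.Helper39.SimpOrd

open Cfsg.Agent.Helper9

variable {G : Type*} [Group G] [Finite G] [IsSimpleGroup G]

theorem not_prime_pow (hG : ¬ IsMulCommutative G) (p k : ℕ) (hp : p.Prime)
    (hcard : Nat.card G = p ^ k) : False := by
  have hc : IsCyclic G := isCyclic_of_simple_of_card_prime_pow p k hp hcard
  exact hG IsCyclic.isMulCommutative

theorem not_paqb (hG : ¬ IsMulCommutative G) (p q a b : ℕ) (hp : p.Prime) (hq : q.Prime)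
    (hcard : Nat.card G = p ^ a * q ^ b) : False := by
  have hs : Group.IsSolvable G := Cfsg.Agent.S0144.result p q a b hp hq hcard
  have hcomm := IsSimpleGroup.comm_iff_isSolvable.mpr hs
  exact hG ⟨⟨hcomm⟩⟩

theorem not_s0499 (hG : ¬ IsMulCommutative G) (h2 : Even (Nat.card G))
    (h12 : ¬ 12 ∣ Nat.card G) (h16 : ¬ 16 ∣ Nat.card G) (h56 : ¬ 56 ∣ Nat.card G) : False := by
  rcases Cfsg.Agent.S0499.result hG h2 with h | h | h
  · exact h12 h
  · exact h16 h
  · exact h56 h

end Cfsg.Agent.Helper39.SimpOrd
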