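import Cfsg.Agent.Helper39.SimpOrd.KitC

/-!
# Order 5040: `n_5 = 56` is impossible (WANTED #3351 of helper17, for S0978)
-/

set_option autoImplicit false
set_option linter.style.haveILetI false

namespace Cfsg.Agent.Helper39.SimpOrd

open Subgroup Cfsg.Agent.Helper9 Cfsg.Agent.Helper17

variable {G : Type*} [Group G]

/-- If `C` has a unique Sylow `p`-subgroup `K0`, every `p`-subgroup of `G` inside `C` lies in
(the image of) `K0`. -/
theorem le_map_of_subsingleton_sylow {p : ℕ} [Fact p.Prime] (C : Subgroup G)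
    [Subsingleton (Sylow p ↥C)] (K0 : Sylow p ↥C) (Q : Subgroup G) (hQC : Q ≤ C)
    (hQ : IsPGroup p Q) : Q ≤ (K0 : Subgroup ↥C).map C.subtype := by
  have hQ' : IsPGroup p (Q.subgroupOf C) := hQ.comap_subtype
  obtain ⟨S, hS⟩ := hQ'.exists_le_sylow
  have hSK : S = K0 := Subsingleton.elim _ _
  intro q hq
  have : (⟨q, hQC hq⟩ : ↥C) ∈ (S : Subgroup ↥C) := hS (by
    rw [Subgroup.mem_subgroupOf]; exact hq)
  rw [hSK] at this
  exact Subgroup.mem_map.mpr ⟨⟨q, hQC hq⟩, this, rfl⟩

/-- the centralizer of `H` is normalized by the normalizer of `H` -/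
theorem conj_mem_centralizer_of_mem_normalizer (H : Subgroup G) {n c : G}
    (hn : n ∈ normalizer (H : Set G)) (hc : c ∈ centralizer (H : Set G)) :
    n * c * n⁻¹ ∈ centralizer (H : Set G) := by
  rw [Subgroup.mem_centralizer_iff] at hc ⊢
  intro h hh
  have hn' : n⁻¹ ∈ normalizer (H : Set G) := Subgroup.inv_mem _ hn
  have h1 : n⁻¹ * h * n ∈ H := by
    have := (Subgroup.mem_normalizer_iff.mp hn' h).mp hh
    simpa using this
  have h2 := hc _ h1
  calc h * (n * c * n⁻¹) = n * ((n⁻¹ * h * n) * c) * n⁻¹ := by group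
    _ = n * (c * (n⁻¹ * h * n)) * n⁻¹ := by rw [h2]
    _ = n * c * n⁻¹ * h := by group

variable [Finite G]

/-- a subgroup of index two in `L` is normalized by `L` -/
theorem le_normalizer_of_card_eq_two_mul {H L : Subgroup G} (hHL : H ≤ L)
    (hcard : Nat.card L = 2 * Nat.card H) : L ≤ normalizer (H : Set G) := by
  rw [← Subgroup.normal_subgroupOf_iff_le_normalizer hHL]
  apply Subgroup.normal_of_index_eq_two
  have h1 : H.relIndex L * Nat.card H = Nat.card L := by
    have h0 := Subgroup.card_mul_index (H.subgroupOf L)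
    rw [Nat.card_congr (Subgroup.subgroupOfEquivOfLe hHL).toEquiv, mul_comm] at h0
    exact h0
  have hpos : 0 < Nat.card H := Nat.card_pos
  show H.relIndex L = 2
  rw [hcard] at h1
  exact Nat.eq_of_mul_eq_mul_right hpos h1

theorem not_n5_56 [IsSimpleGroup G] (hcard : Nat.card G = 5040)
    (h : Nat.card (Sylow 5 G) = 56) : False := by
  haveI : Fact (Nat.Prime 5) := ⟨by norm_num⟩
  haveI : Fact (Nat.Prime 3) := ⟨by norm_num⟩
  have hG : ¬ IsMulCommutative G := not_comm_of_simple_of_not_prime (by rw [hcard]; norm_num)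
  obtain ⟨P⟩ : Nonempty (Sylow 5 G) := inferInstance
  have hP : Nat.card (P : Subgroup G) = 5 := by
    have := card_sylow_subgroup_of_card_eq (p := 5) (k := 1) (m := 1008)
      (by rw [hcard]; norm_num) (by norm_num) P
    simpa using this
  have hN : Nat.card (normalizer ((P : Subgroup G) : Set G)) = 90 :=
    card_normalizer_of_card_sylow P hcard h (by norm_num) (by norm_num)
  obtain ⟨hd4, hd90⟩ := relIndex_dvd_of_card_sylow_prime P hP
  have hne := not_normalizer_le_centralizer_of_simple P (by rw [hP]; norm_num)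
    (by rw [hP, hcard]; norm_num)
  have hCmul := card_centralizer_mul_relIndex (P : Subgroup G)
  have hd1 : (centralizer ((P : Subgroup G) : Set G)).relIndex
      (normalizer ((P : Subgroup G) : Set G)) ≠ 1 :=
    fun h1 => hne (Subgroup.relIndex_eq_one.mp h1)
  rw [hN] at hd90 hCmul
  -- `|C| = 45`
  have hC : Nat.card (centralizer ((P : Subgroup G) : Set G)) = 45 := by
    generalize (centralizer ((P : Subgroup G) : Set G)).relIndex
      (normalizer ((P : Subgroup G) : Set G)) = d at hd4 hd90 hd1 hCmul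
    have hd : d ≤ 4 := Nat.le_of_dvd (by norm_num) hd4
    interval_cases d
    · simp at hd4
    · exact absurd rfl hd1
    · omega
    · norm_num at hd4
    · norm_num at hd90
  set C := centralizer ((P : Subgroup G) : Set G) with hCdef
  set N := normalizer ((P : Subgroup G) : Set G) with hNdef
  have hCN : C ≤ N := Subgroup.centralizer_le_normalizer _
  -- the Sylow 3-subgroup of `C`
  have hC' : Nat.card C = 3 ^ 2 * 5 := by rw [hC]; norm_num
  have hn3C : Nat.card (Sylow 3 ↥C) = 1 := by
    have hdvd := card_sylow_dvd_of_card_eq hC' (by norm_num)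
    have hmod := card_sylow_modEq_one 3 ↥C
    have hle := Nat.le_of_dvd (by norm_num) hdvd
    unfold Nat.ModEq at hmod
    have hpos : 0 < Nat.card (Sylow 3 ↥C) := Nat.card_pos
    generalize Nat.card (Sylow 3 ↥C) = n at *
    interval_cases n <;> simp_all
  haveI : Subsingleton (Sylow 3 ↥C) := (Nat.card_eq_one_iff_unique.mp hn3C).1
  obtain ⟨K0⟩ : Nonempty (Sylow 3 ↥C) := inferInstance
  have hK0 : Nat.card (K0 : Subgroup ↥C) = 3 ^ 2 :=
    card_sylow_subgroup_of_card_eq hC' (by norm_num) K0
  set K := (K0 : Subgroup ↥C).map C.subtype with hKdef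
  have hKcard : Nat.card K = 9 := by
    rw [hKdef, Subgroup.card_map_of_injective C.subtype_injective, hK0]; norm_num
  have hKC : K ≤ C := by
    rintro _ ⟨y, -, rfl⟩
    exact y.2
  -- `N` normalizes `K`
  have hconj : ∀ n ∈ N, ∀ k ∈ K, n * k * n⁻¹ ∈ K := by
    intro n hn k hk
    have hyC : n * k * n⁻¹ ∈ C := conj_mem_centralizer_of_mem_normalizer _ hn (hKC hk)
    have hk9 : k ^ 9 = 1 := by
      have := pow_card_eq_one' (G := K) (x := ⟨k, hk⟩)
      rw [hKcard] at this
      exact congrArg Subtype.val this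
    have hy9 : (n * k * n⁻¹) ^ 9 = 1 := by
      rw [conj_pow, hk9]; simp
    have hQ : IsPGroup 3 (Subgroup.zpowers (n * k * n⁻¹)) := by
      intro g
      refine ⟨2, ?_⟩
      obtain ⟨j, hj⟩ := Subgroup.mem_zpowers_iff.mp g.2
      apply Subtype.ext
      show (g : G) ^ (3 ^ 2) = 1
      rw [← hj, ← zpow_natCast, ← zpow_mul, mul_comm, zpow_mul, zpow_natCast]
      norm_num [hy9]
    have hle := le_map_of_subsingleton_sylow C K0 (Subgroup.zpowers (n * k * n⁻¹))
      (by rw [Subgroup.zpowers_le]; exact hyC) hQ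
    exact hle (Subgroup.mem_zpowers _)
  have hNK : N ≤ normalizer (K : Set G) := by
    intro n hn
    rw [Subgroup.mem_normalizer_iff]
    intro k
    constructor
    · exact hconj n hn k
    · intro hk
      have := hconj n⁻¹ (Subgroup.inv_mem _ hn) _ hk
      simpa [mul_assoc] using this
  -- `K` is a Sylow 3-subgroup of `G`
  have hK3 : IsPGroup 3 K := IsPGroup.of_card (n := 2) (by rw [hKcard]; norm_num)
  obtain ⟨KS, hKS⟩ := hK3.exists_le_sylow
  have hKScard : Nat.card (KS : Subgroup G) = 3 ^ 2 :=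
    card_sylow_subgroup_of_card_eq (p := 3) (k := 2) (m := 560) (by rw [hcard]; norm_num) (by norm_num) KS
  have hKeq : K = (KS : Subgroup G) :=
    Subgroup.eq_of_le_of_card_ge hKS (by rw [hKScard, hKcard]; norm_num)
  rw [hKeq] at hNK
  -- the number of Sylow 3-subgroups
  have hmul := card_normalizer_mul_card_sylow KS
  have hmod3 := card_sylow_modEq_one 3 G
  have hdvdN : Nat.card N ∣ Nat.card (normalizer ((KS : Subgroup G) : Set G)) :=
    Subgroup.card_dvd_of_le hNK
  have hidx : (normalizer ((KS : Subgroup G) : Set G)).index = Nat.card (Sylow 3 G) :=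
    (KS.card_eq_index_normalizer).symm
  have hne1 : Nat.card (Sylow 3 G) ≠ 1 :=
    card_sylow_ne_one_of_simple (p := 3) (k := 2) (m := 560) (by rw [hcard]; norm_num) (by norm_num)
      (by norm_num) (by norm_num)
  have htop : normalizer ((KS : Subgroup G) : Set G) ≠ ⊤ := normalizer_sylow_ne_top KS hne1
  have hfact := two_mul_card_dvd_factorial_index hG _ htop
  rw [hidx, hcard] at hfact
  rw [hN] at hdvdN
  rw [hcard] at hmul
  have hNKcard : Nat.card (normalizer ((KS : Subgroup G) : Set G)) = 180 := by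
    obtain ⟨j, hj⟩ := hdvdN
    unfold Nat.ModEq at hmod3
    generalize Nat.card (Sylow 3 G) = n3 at *
    rw [hj] at hmul
    have hjn : j * n3 = 56 := by nlinarith
    have hn56 : n3 ≤ 56 := Nat.le_of_dvd (by norm_num) ⟨j, by rw [← hjn]; ring⟩
    have hj56 : j ≤ 56 := Nat.le_of_dvd (by norm_num) ⟨n3, hjn.symm⟩
    have hn8 : 8 ≤ n3 := by
      by_contra hlt
      have hle : n3 ≤ 7 := by omega
      have h7 : n3.factorial ∣ Nat.factorial 7 := Nat.factorial_dvd_factorial hle
      have := hfact.trans h7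
      norm_num [Nat.factorial] at this
    have : j = 2 := by
      interval_cases j <;> omega
    rw [hj, this]
  -- `N` has index two in `N(K)`, so `N(K) ≤ N(N) = N`
  have hle2 := le_normalizer_of_card_eq_two_mul hNK (by rw [hNKcard, hN])
  have hnn : normalizer ((normalizer ((P : Subgroup G) : Set G) : Subgroup G) : Set G) =
      normalizer ((P : Subgroup G) : Set G) := Sylow.normalizer_normalizer P
  rw [hNdef, hnn] at hle2
  have := Nat.le_of_dvd (by rw [hN]; norm_num) (Subgroup.card_dvd_of_le hle2)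
  rw [hNKcard, ← hNdef, hN] at this
  omega

end Cfsg.Agent.Helper39.SimpOrd
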