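import Cfsg.Agent.Helper39.SimpOrd.KitC
import Cfsg.Agent.Helper17.VTrick

set_option autoImplicit false
set_option linter.style.haveILetI false

namespace Cfsg.Agent.Helper39.SimpOrd

open Subgroup Cfsg.Agent.Helper9 Cfsg.Agent.Helper17

variable {G : Type*} [Group G] [Finite G]

/-- Numeric core of the Sylow count in an overgroup `R` of `N(P)`: `n_p(R) * |G : R| = n_p(G)`,
`n_p(R) ≡ 1 (mod p)` and `n_p(R) * |N(P)| = |R|`. -/
theorem exists_sylow_count_of_normalizer_le {p : ℕ} [Fact p.Prime] (P : Sylow p G) (R : Subgroup G)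
    (hNR : normalizer ((P : Subgroup G) : Set G) ≤ R) (np : ℕ)
    (hnp : Nat.card (Sylow p G) = np) :
    ∃ n : ℕ, n * R.index = np ∧ n % p = 1 ∧
      n * Nat.card (normalizer ((P : Subgroup G) : Set G)) = Nat.card R := by
  have hPR : (P : Subgroup G) ≤ R := le_normalizer.trans hNR
  have hcount := card_sylow_of_le P R hPR
  rw [inf_eq_right.mpr hNR] at hcount
  have hmod : Nat.card (Sylow p ↥R) ≡ 1 [MOD p] := card_sylow_modEq_one p _
  have hidx := Subgroup.card_mul_index R
  have hN := card_normalizer_mul_card_sylow P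
  rw [hnp] at hN
  have hNpos : 0 < Nat.card (normalizer ((P : Subgroup G) : Set G)) := Nat.card_pos
  generalize hn : Nat.card (Sylow p ↥R) = n at hcount hmod
  have hni : n * R.index = np := by
    have : Nat.card (normalizer ((P : Subgroup G) : Set G)) * (n * R.index)
        = Nat.card (normalizer ((P : Subgroup G) : Set G)) * np := by
      rw [hN, ← hidx, ← hcount]; ring
    exact Nat.eq_of_mul_eq_mul_left hNpos this
  have hp1 : 1 < p := (Fact.out : p.Prime).one_lt
  have hmod' : n % p = 1 := by
    have := hmod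
    unfold Nat.ModEq at this
    rw [this]
    exact Nat.mod_eq_of_lt hp1
  exact ⟨n, hni, hmod', hcount⟩

/-- Order 720, case `|C(P_5)| = 10`: the involution `t` of `C(P_5)` has `C(t) = N(P_5)`, and the
parity count on the 36 Sylow 5-subgroups is impossible. -/
theorem case10_720 [IsSimpleGroup G] (h : Nat.card G = 720) [Fact (Nat.Prime 5)] (P : Sylow 5 G)
    (hP : Nat.card (P : Subgroup G) = 5) (hmem : Nat.card (Sylow 5 G) = 36)
    (hN : Nat.card (normalizer ((P : Subgroup G) : Set G)) = 20)
    (hC : Nat.card (centralizer ((P : Subgroup G) : Set G)) = 2 * 5) : False := by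
  have hG : ¬ IsMulCommutative G := not_comm_of_simple_of_not_prime (by rw [h]; norm_num)
  have hidxN : (normalizer ((P : Subgroup G) : Set G)).index = 36 := by
    rw [← hmem]; exact (P.card_eq_index_normalizer).symm
  have hNtop : normalizer ((P : Subgroup G) : Set G) ≠ ⊤ :=
    normalizer_sylow_ne_top P (by rw [hmem]; norm_num)
  obtain ⟨t, ht2, htC, huniq, hNt⟩ := unique_involution_centralizer (by norm_num) P hP hC
  have ht1 : t ≠ 1 := by
    rintro rfl
    rw [orderOf_one] at ht2
    omega
  have hMtop : centralizer ({t} : Set G) ≠ ⊤ := centralizer_ne_top_of_simple hG ht1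
  have hCt : centralizer ({t} : Set G) = normalizer ((P : Subgroup G) : Set G) := by
    symm
    apply Subgroup.eq_of_le_of_card_ge hNt
    obtain ⟨n, hn1, hn2, hn3⟩ := exists_sylow_count_of_normalizer_le P _ hNt 36 hmem
    have hi1 : (centralizer ({t} : Set G)).index ≠ 1 := fun h => hMtop (Subgroup.index_eq_one.mp h)
    have hi5 : ¬ (centralizer ({t} : Set G)).index ≤ 6 := by
      intro hle
      have := two_mul_card_dvd_factorial_of_index_le hG _ hMtop hle
      rw [h] at this
      norm_num [Nat.factorial] at this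
    rw [← hn3, hN]
    generalize (centralizer ({t} : Set G)).index = i at hn1 hi1 hi5
    have hn36 : n ≤ 36 := Nat.le_of_dvd (by norm_num) ⟨i, hn1.symm⟩
    have hi36 : i ≤ 36 := Nat.le_of_dvd (by norm_num) ⟨n, by rw [← hn1]; ring⟩
    interval_cases n <;> first | omega | (exfalso; omega) | (exfalso; interval_cases i <;> omega)
  obtain ⟨F, m, hm, hF1, -, hF2, hF3⟩ :=
    parity_count' (by rw [h]; norm_num) P hP t ht2 htC huniq hCt hNtop
  rw [hC] at hF2
  rw [hidxN] at hF3
  unfold Nat.ModEq at hF1
  omega

end Cfsg.Agent.Helper39.SimpOrd
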