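import Cfsg.Agent.Helper39.SimpOrd.Kit

set_option autoImplicit false

namespace Cfsg.Agent.Helper39.SimpOrd

open Subgroup Cfsg.Agent.Helper9 Cfsg.Agent.Helper17

variable {G : Type*} [Group G] [Finite G] [IsSimpleGroup G]

theorem no_simple_120 (h : Nat.card G = 120) : False := by
  have hG : ¬ IsMulCommutative G := not_comm_of_simple_of_not_prime (by rw [h]; norm_num)
  exact kill_succ' hG 5 1 24 20 (by norm_num) (by rw [h]; norm_num) (by norm_num) (by norm_num)
    (by norm_num) (by decide +kernel) (by norm_num) (by norm_num)

theorem no_simple_180 (h : Nat.card G = 180) : False := by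
  have hG : ¬ IsMulCommutative G := not_comm_of_simple_of_not_prime (by rw [h]; norm_num)
  exact kill_succ' hG 5 1 36 30 (by norm_num) (by rw [h]; norm_num) (by norm_num) (by norm_num)
    (by norm_num) (by decide +kernel) (by norm_num) (by norm_num)

theorem no_simple_264 (h : Nat.card G = 264) : False := by
  have hG : ¬ IsMulCommutative G := not_comm_of_simple_of_not_prime (by rw [h]; norm_num)
  exact kill_succ' hG 11 1 24 22 (by norm_num) (by rw [h]; norm_num) (by norm_num) (by norm_num)
    (by norm_num) (by decide +kernel) (by norm_num) (by norm_num)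

theorem no_simple_336 (h : Nat.card G = 336) : False := by
  have hG : ¬ IsMulCommutative G := not_comm_of_simple_of_not_prime (by rw [h]; norm_num)
  exact kill_succ' hG 7 1 48 42 (by norm_num) (by rw [h]; norm_num) (by norm_num) (by norm_num)
    (by norm_num) (by decide +kernel) (by norm_num) (by norm_num)

theorem no_simple_528 (h : Nat.card G = 528) : False := by
  have hG : ¬ IsMulCommutative G := not_comm_of_simple_of_not_prime (by rw [h]; norm_num)
  exact kill_succ' hG 11 1 48 44 (by norm_num) (by rw [h]; norm_num) (by norm_num) (by norm_num)
    (by norm_num) (by decide +kernel) (by norm_num) (by norm_num)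

theorem no_simple_560 (h : Nat.card G = 560) : False := by
  have hG : ¬ IsMulCommutative G := not_comm_of_simple_of_not_prime (by rw [h]; norm_num)
  exact kill_succ' hG 7 1 80 70 (by norm_num) (by rw [h]; norm_num) (by norm_num) (by norm_num)
    (by norm_num) (by decide +kernel) (by norm_num) (by norm_num)

theorem no_simple_672 (h : Nat.card G = 672) : False := by
  have hG : ¬ IsMulCommutative G := not_comm_of_simple_of_not_prime (by rw [h]; norm_num)
  exact kill_succ' hG 7 1 96 84 (by norm_num) (by rw [h]; norm_num) (by norm_num) (by norm_num)
    (by norm_num) (by decide +kernel) (by norm_num) (by norm_num)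

theorem no_simple_792 (h : Nat.card G = 792) : False := by
  have hG : ¬ IsMulCommutative G := not_comm_of_simple_of_not_prime (by rw [h]; norm_num)
  exact kill_succ' hG 11 1 72 66 (by norm_num) (by rw [h]; norm_num) (by norm_num) (by norm_num)
    (by norm_num) (by decide +kernel) (by norm_num) (by norm_num)

theorem no_simple_1056 (h : Nat.card G = 1056) : False := by
  have hG : ¬ IsMulCommutative G := not_comm_of_simple_of_not_prime (by rw [h]; norm_num)
  exact kill_succ' hG 11 1 96 88 (by norm_num) (by rw [h]; norm_num) (by norm_num) (by norm_num)
    (by norm_num) (by decide +kernel) (by norm_num) (by norm_num)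

end Cfsg.Agent.Helper39.SimpOrd
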