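import Mathlib
import Cfsg.Agent.Helper17.SylowKit
import Cfsg.Agent.Helper53.Thompson

set_option autoImplicit false
set_option linter.style.haveILetI false

namespace Cfsg.Agent.Helper39.SimpOrd

open Subgroup Cfsg.Agent Cfsg.Agent.Helper17

/-- In a cyclic group two elements of order two coincide. -/
theorem eq_of_orderOf_two_of_isCyclic {K : Type*} [Group K] [Finite K] [IsCyclic K] {a b : K}
    (ha : orderOf a = 2) (hb : orderOf b = 2) : a = b := by
  classical
  letI : Fintype K := Fintype.ofFinite K
  have h2 : 2 ∣ Fintype.card K := by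
    rw [← Nat.card_eq_fintype_card, ← ha]; exact orderOf_dvd_natCard a
  have hcard := IsCyclic.card_orderOf_eq_totient (α := K) h2
  rw [Nat.totient_two, Finset.card_eq_one] at hcard
  obtain ⟨c, hc⟩ := hcard
  have hac : a ∈ ({c} : Finset K) := by rw [← hc]; simp [ha]
  have hbc : b ∈ ({c} : Finset K) := by rw [← hc]; simp [hb]
  rw [Finset.mem_singleton] at hac hbc
  rw [hac, hbc]

/-- A group of order dividing 4 with two distinct involutions has exponent two. -/
theorem sq_eq_one_of_card_dvd_four {K : Type*} [Group K] [Finite K] (h4 : Nat.card K ∣ 4)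
    {a b : K} (hab : a ≠ b) (ha : orderOf a = 2) (hb : orderOf b = 2) (u : K) : u ^ 2 = 1 := by
  by_contra hu
  have hdvd : orderOf u ∣ 4 := (orderOf_dvd_natCard u).trans h4
  have hle : orderOf u ≤ 4 := Nat.le_of_dvd (by norm_num) hdvd
  have hpos : 0 < orderOf u := orderOf_pos u
  have h4' : orderOf u = 4 := by
    generalize ho : orderOf u = o at hdvd hle hpos
    interval_cases o
    · exact absurd (by rw [orderOf_eq_one_iff.mp ho]; simp) hu
    · exact absurd (by rw [← ho]; exact pow_orderOf_eq_one u) hu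
    · norm_num at hdvd
    · rfl
  have hcard : Nat.card K = 4 := by
    apply Nat.dvd_antisymm h4
    rw [← h4']; exact orderOf_dvd_natCard u
  haveI : IsCyclic K := isCyclic_of_orderOf_eq_card u (by rw [h4', hcard])
  exact hab (eq_of_orderOf_two_of_isCyclic ha hb)

variable {G : Type*} [Group G] [Finite G]

/-- Subgroup version. -/
theorem sq_eq_one_of_card_dvd_four' (K : Subgroup G) (h4 : Nat.card K ∣ 4)
    {a b : G} (haK : a ∈ K) (hbK : b ∈ K) (hab : a ≠ b) (ha : orderOf a = 2) (hb : orderOf b = 2)
    {u : G} (hu : u ∈ K) : u ^ 2 = 1 := by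
  have := sq_eq_one_of_card_dvd_four (K := K) h4 (a := ⟨a, haK⟩) (b := ⟨b, hbK⟩)
    (fun h => hab (congrArg Subtype.val h)) (by rw [Subgroup.orderOf_mk, ha])
    (by rw [Subgroup.orderOf_mk, hb]) ⟨u, hu⟩
  exact congrArg Subtype.val this

end Cfsg.Agent.Helper39.SimpOrd
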