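import Cfsg.Agent.Helper39.SimpOrd.TwoLocal

set_option autoImplicit false
set_option linter.style.haveILetI false

namespace Cfsg.Agent.Helper39.SimpOrd

open Subgroup Cfsg.Agent Cfsg.Agent.Helper17

variable {G : Type*} [Group G] [Finite G]

/-- `2`-subgroups of the centralizer of a conjugate of `t` inside a Sylow `2`-subgroup are small. -/
theorem card_inf_centralizer_conj_dvd (S : Sylow 2 G) (hS : Nat.card (S : Subgroup G) = 16)
    (t : G) (c : ℕ) (hC : Nat.card (centralizer ({t} : Set G)) = c) (hgcd : Nat.gcd 16 c = 4)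
    (g : G) : Nat.card ((S : Subgroup G) ⊓ centralizer ({g * t * g⁻¹} : Set G) : Subgroup G) ∣ 4 := by
  set K : Subgroup G := (S : Subgroup G) ⊓ centralizer ({g * t * g⁻¹} : Set G) with hK
  have h1 : Nat.card K ∣ 16 := hS ▸ Subgroup.card_dvd_of_le inf_le_left
  have hmap : K.map (MulAut.conj g⁻¹).toMonoidHom ≤ centralizer ({t} : Set G) := by
    rintro _ ⟨u, hu, rfl⟩
    have huc : u * (g * t * g⁻¹) = (g * t * g⁻¹) * u :=
      Subgroup.mem_centralizer_singleton_iff.mp (Subgroup.mem_inf.mp hu).2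
    rw [Subgroup.mem_centralizer_singleton_iff]
    simp only [MulEquiv.coe_toMonoidHom, MulAut.conj_apply, inv_inv]
    calc g⁻¹ * u * g * t = g⁻¹ * (u * (g * t * g⁻¹)) * g := by group
      _ = g⁻¹ * ((g * t * g⁻¹) * u) * g := by rw [huc]
      _ = t * (g⁻¹ * u * g) := by group
  have h2 : Nat.card K ∣ c := by
    rw [← hC, ← Subgroup.card_map_of_injective (f := (MulAut.conj g⁻¹).toMonoidHom)
      (MulAut.conj g⁻¹).injective]
    exact Subgroup.card_dvd_of_le hmap
  rw [← hgcd]
  exact Nat.dvd_gcd h1 h2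

theorem card_inf_centralizer_dvd (S : Sylow 2 G) (hS : Nat.card (S : Subgroup G) = 16)
    (t : G) (c : ℕ) (hC : Nat.card (centralizer ({t} : Set G)) = c) (hgcd : Nat.gcd 16 c = 4) :
    Nat.card ((S : Subgroup G) ⊓ centralizer ({t} : Set G) : Subgroup G) ∣ 4 := by
  have := card_inf_centralizer_conj_dvd S hS t c hC hgcd 1
  simpa using this

omit [Finite G] in
/-- A `2`-subgroup containing two commuting involutions. -/
theorem isPGroup_sup_zpowers {t r : G} (ht : orderOf t = 2) (hr : orderOf r = 2)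
    (hcomm : t * r = r * t) : IsPGroup 2 (zpowers t ⊔ zpowers r : Subgroup G) := by
  haveI : Fact (Nat.Prime 2) := ⟨Nat.prime_two⟩
  have h1 : IsPGroup 2 (zpowers t) := by
    apply IsPGroup.of_card (n := 1); rw [Nat.card_zpowers, ht, pow_one]
  have h2 : IsPGroup 2 (zpowers r) := by
    apply IsPGroup.of_card (n := 1); rw [Nat.card_zpowers, hr, pow_one]
  apply IsPGroup.to_sup_of_normal_right' h1 h2
  rw [Subgroup.zpowers_le]
  apply Subgroup.centralizer_le_normalizer
  rw [Subgroup.mem_centralizer_iff]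
  intro h hh
  obtain ⟨k, rfl⟩ := Subgroup.mem_zpowers_iff.mp hh
  exact ((Commute.zpow_left (show Commute r t from hcomm.symm)) k).eq

end Cfsg.Agent.Helper39.SimpOrd
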