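import Cfsg.Agent.Helper39.SimpOrd.TwoLocalB

set_option autoImplicit false
set_option linter.style.haveILetI false

namespace Cfsg.Agent.Helper39.SimpOrd

open Subgroup Cfsg.Agent Cfsg.Agent.Helper17

variable {G : Type*} [Group G] [Finite G]

/-- If every element of the `2`-group `S` squares into `{1, z}` (`z` a central involution),
then `t` has at most two `S`-conjugates, so `C_S(t)` has index at most two in `S`. -/
theorem card_le_of_forall_sq (S : Subgroup G) (t z : G) (htS : t ∈ S)
    (htt : t * t = 1) (hzz : z * z = 1) (hz1 : z ≠ 1)
    (hzc : ∀ s ∈ S, s * z = z * s)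
    (hsq : ∀ g ∈ S, g * g = 1 ∨ g * g = z) :
    Nat.card S ≤ 2 * Nat.card (S ⊓ centralizer ({t} : Set G) : Subgroup G) := by
  -- every conjugate of `t` under `S` is `t` or `t z`
  have hconj : ∀ g ∈ S, g * t * g⁻¹ = t ∨ g * t * g⁻¹ = t * z := by
    intro g hg
    have hgt : g * t ∈ S := S.mul_mem hg htS
    have htz : t * z = z * t := hzc t htS
    have hgz : g * z = z * g := hzc g hg
    rcases hsq g hg with h1 | h1 <;> rcases hsq (g * t) hgt with h2 | h2
    · left
      have hginv : g⁻¹ = g := inv_eq_of_mul_eq_one_left h1
      have : g * t * g = t := by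
        calc g * t * g = (g * t) * (g * t) * t := by simp [mul_assoc, htt]
          _ = t := by rw [h2, one_mul]
      rw [hginv]; exact this
    · right
      have hginv : g⁻¹ = g := inv_eq_of_mul_eq_one_left h1
      have : g * t * g = z * t := by
        calc g * t * g = (g * t) * (g * t) * t := by simp [mul_assoc, htt]
          _ = z * t := by rw [h2]
      rw [hginv, this, htz]
    · right
      have hginv : g⁻¹ = z * g := by
        apply inv_eq_of_mul_eq_one_left
        calc z * g * g = z * (g * g) := by group
          _ = 1 := by rw [h1, hzz]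
      have : g * t * g = t := by
        calc g * t * g = (g * t) * (g * t) * t := by simp [mul_assoc, htt]
          _ = t := by rw [h2, one_mul]
      calc g * t * g⁻¹ = g * t * (z * g) := by rw [hginv]
        _ = g * (t * z) * g := by group
        _ = g * (z * t) * g := by rw [htz]
        _ = (g * z) * t * g := by group
        _ = (z * g) * t * g := by rw [hgz]
        _ = z * (g * t * g) := by group
        _ = z * t := by rw [this]
        _ = t * z := htz.symm
    · left
      have hginv : g⁻¹ = z * g := by
        apply inv_eq_of_mul_eq_one_left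
        calc z * g * g = z * (g * g) := by group
          _ = 1 := by rw [h1, hzz]
      have : g * t * g = z * t := by
        calc g * t * g = (g * t) * (g * t) * t := by simp [mul_assoc, htt]
          _ = z * t := by rw [h2]
      calc g * t * g⁻¹ = g * t * (z * g) := by rw [hginv]
        _ = g * (t * z) * g := by group
        _ = g * (z * t) * g := by rw [htz]
        _ = (g * z) * t * g := by group
        _ = (z * g) * t * g := by rw [hgz]
        _ = z * (g * t * g) := by group
        _ = z * (z * t) := by rw [this]
        _ = (z * z) * t := by group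
        _ = t := by rw [hzz, one_mul]
  set K : Subgroup ↥S := (S ⊓ centralizer ({t} : Set G)).subgroupOf S with hK
  have hmemK : ∀ b : ↥S, b ∈ K ↔ (b : G) * t * (b : G)⁻¹ = t := by
    intro b
    rw [hK, Subgroup.mem_subgroupOf, Subgroup.mem_inf, Subgroup.mem_centralizer_singleton_iff]
    constructor
    · rintro ⟨-, h⟩
      rw [h, mul_inv_cancel_right]
    · intro h
      refine ⟨b.2, ?_⟩
      calc (b : G) * t = (b : G) * t * (b : G)⁻¹ * b := by group
        _ = t * b := by rw [h]
  have hcardK : Nat.card K = Nat.card (S ⊓ centralizer ({t} : Set G) : Subgroup G) :=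
    Nat.card_congr (subgroupOfEquivOfLe inf_le_left).toEquiv
  have hidx : K.index ≤ 2 := by
    by_cases hall : ∀ g ∈ S, g * t * g⁻¹ = t
    · have : K = ⊤ := by
        rw [eq_top_iff]
        intro b _
        exact (hmemK b).mpr (hall b b.2)
      rw [this, Subgroup.index_top]; norm_num
    · push Not at hall
      obtain ⟨a, haS, hane⟩ := hall
      have hatz : a * t * a⁻¹ = t * z := (hconj a haS).resolve_left hane
      have htzne : t * z ≠ t := by
        intro h
        apply hz1
        have : t * z = t * 1 := by rw [h, mul_one]
        exact mul_left_cancel this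
      have h2 : K.index = 2 := by
        rw [Subgroup.index_eq_two_iff]
        refine ⟨⟨a, haS⟩, fun b => ?_⟩
        have hba : ((b * ⟨a, haS⟩ : ↥S) : G) * t * ((b * ⟨a, haS⟩ : ↥S) : G)⁻¹
            = ((b : G) * t * (b : G)⁻¹) * z := by
          have hbz : (b : G) * z = z * b := hzc b b.2
          calc ((b * ⟨a, haS⟩ : ↥S) : G) * t * ((b * ⟨a, haS⟩ : ↥S) : G)⁻¹
              = (b : G) * (a * t * a⁻¹) * (b : G)⁻¹ := by
                simp only [Subgroup.coe_mul]; group
            _ = (b : G) * (t * z) * (b : G)⁻¹ := by rw [hatz]
            _ = ((b : G) * t * (b : G)⁻¹) * ((b : G) * z * (b : G)⁻¹) := by group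
            _ = ((b : G) * t * (b : G)⁻¹) * z := by rw [hbz, mul_inv_cancel_right]
        rw [hmemK, hmemK, hba]
        rcases hconj b b.2 with h | h
        · rw [h]
          exact Or.inr ⟨rfl, htzne⟩
        · rw [h]
          refine Or.inl ⟨?_, htzne⟩
          calc t * z * z = t * (z * z) := by group
            _ = t := by rw [hzz, mul_one]
      omega
  have hmul := Subgroup.card_mul_index K
  rw [hcardK] at hmul
  have hpos : 0 < K.index := Nat.pos_of_ne_zero Subgroup.index_ne_zero_of_finite
  calc Nat.card S = Nat.card (S ⊓ centralizer ({t} : Set G) : Subgroup G) * K.index := hmul.symm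
    _ ≤ Nat.card (S ⊓ centralizer ({t} : Set G) : Subgroup G) * 2 := Nat.mul_le_mul_left _ hidx
    _ = 2 * Nat.card (S ⊓ centralizer ({t} : Set G) : Subgroup G) := by ring

end Cfsg.Agent.Helper39.SimpOrd
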